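import Mathlib
import Cfsg.Prelude.Def_LieTypeDatum

/-!
Automorphisms of a central quotient `S / Z(S)` of a matrix group induced by semilinear pairs `(g, σ)`
(helper60). `ρ : S →* GL ι F` is the inclusion of the matrix group.
-/

set_option autoImplicit false

namespace Cfsg.Agent.AutPSL

open Matrix

universe u v

variable {ι : Type} [Fintype ι] [DecidableEq ι] {F : Type u} [Field F]

/-- Entrywise application of a field automorphism. -/
abbrev fieldMap (σ : F ≃+* F) : GL ι F →* GL ι F := Matrix.GeneralLinearGroup.map σ.toRingHom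

theorem fieldMap_coe (σ : F ≃+* F) (x : GL ι F) :
    ((fieldMap σ x : GL ι F) : Matrix ι ι F) = (x : Matrix ι ι F).map σ := rfl

theorem fieldMap_one (x : GL ι F) : fieldMap (1 : F ≃+* F) x = x := by
  apply Units.ext; ext i j; rfl

theorem fieldMap_mul (σ τ : F ≃+* F) (x : GL ι F) :
    fieldMap (σ * τ) x = fieldMap σ (fieldMap τ x) := by
  apply Units.ext; ext i j; rfl

theorem fieldMap_inv_apply (σ : F ≃+* F) (x : GL ι F) : fieldMap σ⁻¹ (fieldMap σ x) = x := by
  rw [← fieldMap_mul, inv_mul_cancel, fieldMap_one]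

theorem fieldMap_apply_inv (σ : F ≃+* F) (x : GL ι F) : fieldMap σ (fieldMap σ⁻¹ x) = x := by
  rw [← fieldMap_mul, mul_inv_cancel, fieldMap_one]

/-- The automorphism `x ↦ g σ(x) g⁻¹` of `GL ι F`. -/
def act (g : GL ι F) (σ : F ≃+* F) : GL ι F →* GL ι F :=
  (MulAut.conj g).toMonoidHom.comp (fieldMap σ)

theorem act_apply (g : GL ι F) (σ : F ≃+* F) (x : GL ι F) :
    act g σ x = g * fieldMap σ x * g⁻¹ := rfl

theorem act_coe (g : GL ι F) (σ : F ≃+* F) (x : GL ι F) :
    ((act g σ x : GL ι F) : Matrix ι ι F) =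
      (g : Matrix ι ι F) * (x : Matrix ι ι F).map σ * ((g⁻¹ : GL ι F) : Matrix ι ι F) := rfl

theorem act_one (x : GL ι F) : act 1 (1 : F ≃+* F) x = x := by
  rw [act_apply, fieldMap_one]; group

theorem act_comp (g h : GL ι F) (σ τ : F ≃+* F) (x : GL ι F) :
    act g σ (act h τ x) = act (g * fieldMap σ h) (σ * τ) x := by
  simp only [act_apply, map_mul, map_inv, fieldMap_mul]; group

theorem act_injective (g : GL ι F) (σ : F ≃+* F) : Function.Injective (act g σ) := by
  intro x y h
  have := congrArg (fun z => fieldMap σ⁻¹ (g⁻¹ * z * g)) h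
  simp only [act_apply, mul_assoc, inv_mul_cancel_left, inv_mul_cancel, mul_one,
    fieldMap_inv_apply] at this
  exact this

section

variable {S : Type v} [Group S] (ρ : S →* GL ι F)

/-- The semilinear pair normalises the matrix group. -/
def Normalises (g : GL ι F) (σ : F ≃+* F) : Prop := ∀ s : S, ∃ s' : S, ρ s' = act g σ (ρ s)

/-- The automorphism is induced by the semilinear pair. -/
def Induced (g : GL ι F) (σ : F ≃+* F) (β : MulAut (S ⧸ Subgroup.center S)) : Prop :=
  ∀ s s' : S, ρ s' = act g σ (ρ s) → β (QuotientGroup.mk s) = QuotientGroup.mk s'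

variable {ρ}

theorem normalises_one : Normalises ρ 1 (1 : F ≃+* F) := fun s => ⟨s, (act_one _).symm⟩

theorem induced_one' (hρ : Function.Injective ρ) : Induced ρ 1 (1 : F ≃+* F) 1 := by
  intro s s' h
  rw [act_one] at h
  rw [hρ h]; rfl

theorem Normalises.comp {g h : GL ι F} {σ τ : F ≃+* F} (hg : Normalises ρ g σ)
    (hh : Normalises ρ h τ) : Normalises ρ (g * fieldMap σ h) (σ * τ) := by
  intro s
  obtain ⟨t, ht⟩ := hh s
  obtain ⟨t', ht'⟩ := hg t
  exact ⟨t', by rw [ht', ht, act_comp]⟩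

theorem Induced.ext {g : GL ι F} {σ : F ≃+* F} (hN : Normalises ρ g σ)
    {β γ : MulAut (S ⧸ Subgroup.center S)} (hβ : Induced ρ g σ β) (hγ : Induced ρ g σ γ) :
    β = γ := by
  apply MulEquiv.ext
  intro x
  obtain ⟨s, rfl⟩ := QuotientGroup.mk_surjective x
  obtain ⟨t, ht⟩ := hN s
  rw [hβ s t ht, hγ s t ht]

theorem Induced.comp {g h : GL ι F} {σ τ : F ≃+* F} {β γ : MulAut (S ⧸ Subgroup.center S)}
    (hh : Normalises ρ h τ) (hβ : Induced ρ g σ β) (hγ : Induced ρ h τ γ) :
    Induced ρ (g * fieldMap σ h) (σ * τ) (β * γ) := by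
  intro s s' hs
  obtain ⟨t, ht⟩ := hh s
  rw [MulAut.mul_apply, hγ s t ht, hβ t s' (by rw [hs, ht, act_comp])]

theorem Normalises.surjective [Finite S] (hρ : Function.Injective ρ) {g : GL ι F} {σ : F ≃+* F}
    (hN : Normalises ρ g σ) (t : S) : ∃ s : S, ρ t = act g σ (ρ s) := by
  choose f hf using hN
  have hinj : Function.Injective f := fun a b hab => hρ (act_injective g σ (by
    rw [← hf a, ← hf b, hab]))
  obtain ⟨s, rfl⟩ := Finite.injective_iff_surjective.mp hinj t
  exact ⟨s, hf s⟩

theorem Normalises.inverse [Finite S] (hρ : Function.Injective ρ) {g : GL ι F} {σ : F ≃+* F}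
    (hN : Normalises ρ g σ) : Normalises ρ (fieldMap σ⁻¹ g⁻¹) σ⁻¹ := by
  intro t
  obtain ⟨s, hs⟩ := hN.surjective hρ t
  refine ⟨s, ?_⟩
  rw [hs, act_comp, ← map_mul, inv_mul_cancel, inv_mul_cancel, map_one, act_one]

theorem exists_induced [Finite S] (hρ : Function.Injective ρ) {g : GL ι F} {σ : F ≃+* F}
    (hN : Normalises ρ g σ) : ∃ β : MulAut (S ⧸ Subgroup.center S), Induced ρ g σ β := by
  have hN0 := hN
  choose f hf using hN
  have hinj : Function.Injective f := fun a b hab => hρ (act_injective g σ (by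
    rw [← hf a, ← hf b, hab]))
  let e : S ≃* S :=
    { Equiv.ofBijective f (Finite.injective_iff_bijective.mp hinj) with
      map_mul' := fun a b => hρ (by
        show ρ (f (a * b)) = ρ (f a * f b)
        rw [map_mul, hf, hf, hf, map_mul, map_mul]) }
  have he : ∀ s, e s = f s := fun _ => rfl
  have hZ : (Subgroup.center S).map (e : S →* S) = Subgroup.center S := by
    apply le_antisymm
    · rintro _ ⟨z, hz, rfl⟩
      rw [Subgroup.mem_center_iff]
      intro x
      obtain ⟨y, rfl⟩ := e.surjective x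
      show e y * e z = e z * e y
      rw [← map_mul, ← map_mul, Subgroup.mem_center_iff.mp hz y]
    · intro z hz
      refine ⟨e.symm z, Subgroup.mem_center_iff.mpr fun x => e.injective ?_, e.apply_symm_apply z⟩
      rw [map_mul, map_mul, e.apply_symm_apply, Subgroup.mem_center_iff.mp hz (e x)]
  refine ⟨QuotientGroup.congr _ _ e hZ, fun s s' hs => ?_⟩
  have : s' = f s := hρ (by rw [hs, hf])
  subst this
  rfl

theorem Induced.inverse [Finite S] (hρ : Function.Injective ρ) {g : GL ι F} {σ : F ≃+* F}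
    {β : MulAut (S ⧸ Subgroup.center S)} (hN : Normalises ρ g σ) (hβ : Induced ρ g σ β) :
    Induced ρ (fieldMap σ⁻¹ g⁻¹) σ⁻¹ β⁻¹ := by
  obtain ⟨γ, hγ⟩ := exists_induced hρ (hN.inverse hρ)
  have h := hγ.comp hN hβ
  rw [← map_mul, inv_mul_cancel, inv_mul_cancel, map_one] at h
  have h2 := Induced.ext normalises_one h (induced_one' hρ)
  rwa [← eq_inv_of_mul_eq_one_left h2]

end

/-- If `P` is closed under the group operations, the subgroup it generates is `P` itself. -/
theorem mem_autSubgroupOf_iff {X : Type v} [Group X] {P : (X ≃* X) → Prop}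
    (h1 : P (1 : MulAut X)) (hmul : ∀ β γ : MulAut X, P β → P γ → P (β * γ : MulAut X))
    (hinv : ∀ β : MulAut X, P β → P (β⁻¹ : MulAut X)) (β : MulAut X) :
    β ∈ Cfsg.autSubgroupOf P ↔ P β := by
  refine ⟨fun h => ?_, fun h => Subgroup.subset_closure h⟩
  induction h using Subgroup.closure_induction with
  | mem x hx => exact hx
  | one => exact h1
  | mul x y _ _ hx hy => exact hmul x y hx hy
  | inv x _ hx => exact hinv x hx

end Cfsg.Agent.AutPSL
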