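import Mathlib
import Cfsg.Agent.AutPSL.Induced

/-!
Galois descent over a finite field: Hilbert 90 for `GL_n`, norm surjectivity, Hermitian forms
(helper60).
-/

set_option autoImplicit false

namespace Cfsg.Agent.AutPSL

open Matrix Module

universe u

variable {F : Type u} [Field F]

/-- Scalar matrices in `GL`. -/
abbrev scalarGL (ι : Type) [Fintype ι] [DecidableEq ι] (c : Fˣ) : GL ι F :=
  Matrix.GeneralLinearGroup.scalar ι c

variable {ι : Type} [Fintype ι] [DecidableEq ι]

theorem scalarGL_coe (c : Fˣ) : ((scalarGL ι c : GL ι F) : Matrix ι ι F) = (c : F) • 1 := by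
  show Matrix.scalar ι (c : F) = _
  rw [Matrix.smul_one_eq_diagonal]; rfl

theorem scalarGL_mul_comm (c : Fˣ) (g : GL ι F) : scalarGL ι c * g = g * scalarGL ι c :=
  Matrix.GeneralLinearGroup.scalar_commute c g

theorem fieldMap_scalarGL (σ : F ≃+* F) (c : Fˣ) :
    fieldMap σ (scalarGL ι c) = scalarGL ι (Units.map (σ.toRingHom : F →* F) c) :=
  Matrix.GeneralLinearGroup.map_scalar (f := σ.toRingHom) c

theorem exists_scalarGL {g : GL ι F} {c : F} (hc : c ≠ 0) (hg : (g : Matrix ι ι F) = c • 1) :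
    ∃ u : Fˣ, (u : F) = c ∧ g = scalarGL ι u :=
  ⟨Units.mk0 c hc, rfl, Units.ext (by rw [hg, scalarGL_coe]; rfl)⟩

theorem scalarGL_injective [Nonempty ι] : Function.Injective (scalarGL (F := F) ι) := by
  intro a b h
  apply Units.ext
  have := congrArg (fun M : GL ι F => (M : Matrix ι ι F) (Classical.arbitrary ι) (Classical.arbitrary ι)) h
  simpa [scalarGL_coe] using this

/-- `g σ(g) ⋯ σ^(k-1)(g)`. -/
def normGL (σ : F ≃+* F) (g : GL ι F) : ℕ → GL ι F
  | 0 => 1
  | k + 1 => g * fieldMap σ (normGL σ g k)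

theorem normGL_succ' (σ : F ≃+* F) (g : GL ι F) (k : ℕ) :
    normGL σ g (k + 1) = normGL σ g k * fieldMap (σ ^ k) g := by
  induction k with
  | zero => simp [normGL, fieldMap_one]
  | succ k ih =>
    show g * fieldMap σ (normGL σ g (k + 1)) = g * fieldMap σ (normGL σ g k) * fieldMap (σ ^ (k + 1)) g
    rw [ih, map_mul, ← fieldMap_mul, ← pow_succ', ← mul_assoc]

theorem normGL_fixed (σ : F ≃+* F) (g : GL ι F) {r : ℕ} (hσ : σ ^ r = 1) :
    g * fieldMap σ (normGL σ g r) = normGL σ g r * g := by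
  show normGL σ g (r + 1) = _
  rw [normGL_succ', hσ, fieldMap_one]

theorem normGL_scalar (σ : F ≃+* F) (g : GL ι F) (c : Fˣ) (k : ℕ) :
    normGL σ (g * scalarGL ι c) k = normGL σ g k * normGL σ (scalarGL ι c) k := by
  induction k with
  | zero => simp [normGL]
  | succ k ih =>
    show g * scalarGL ι c * fieldMap σ (normGL σ (g * scalarGL ι c) k) =
      g * fieldMap σ (normGL σ g k) * (scalarGL ι c * fieldMap σ (normGL σ (scalarGL ι c) k))
    rw [ih, map_mul, mul_assoc g, ← mul_assoc (scalarGL ι c) (fieldMap σ (normGL σ g k)), scalarGL_mul_comm]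
    group

/-- The norm of a unit. -/
def normU (σ : F ≃+* F) (k : ℕ) : Fˣ →* Fˣ where
  toFun c := ∏ i ∈ Finset.range k, Units.map ((σ ^ i).toRingHom : F →* F) c
  map_one' := Finset.prod_eq_one fun i _ => map_one _
  map_mul' a b := by simp only [map_mul, Finset.prod_mul_distrib]

theorem normGL_scalarGL (σ : F ≃+* F) (c : Fˣ) (k : ℕ) :
    normGL σ (scalarGL ι c) k = scalarGL ι (normU σ k c) := by
  induction k with
  | zero => simp [normGL, normU]
  | succ k ih =>
    rw [normGL_succ', ih, fieldMap_scalarGL, ← map_mul]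
    congr 1
    exact (Finset.prod_range_succ _ k).symm

/-- Columns of a matrix from a spanning set. -/
theorem exists_gl_of_span (s : Set (ι → F)) (hs : Submodule.span F s = ⊤) :
    ∃ x : GL ι F, ∀ j, (fun i => (x : Matrix ι ι F) i j) ∈ s := by
  classical
  obtain ⟨b, hb, hbspan, hbli⟩ := exists_linearIndependent F s
  rw [hs] at hbspan
  let B : Module.Basis b F (ι → F) := Module.Basis.mk hbli (by rw [Subtype.range_coe]; exact hbspan.ge)
  let e : b ≃ ι := B.indexEquiv (Pi.basisFun F ι)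
  let v : ι → ι → F := fun j => ((e.symm j : b) : ι → F)
  have hvli : LinearIndependent F v := hbli.comp e.symm e.symm.injective
  have hM : IsUnit (Matrix.of v).transpose := Matrix.linearIndependent_cols_iff_isUnit.mp hvli
  exact ⟨hM.unit, fun j => hb (e.symm j).2⟩

variable [Finite F]

/-- Hilbert 90 for `GL_n` over a finite field. -/
theorem hilbert90 (σ : F ≃+* F) (g : GL ι F) (hg : normGL σ g (orderOf σ) = 1) :
    ∃ h : GL ι F, g = h * (fieldMap σ h)⁻¹ := by
  classical
  set r := orderOf σ with hr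
  haveI : Finite (F ≃+* F) := Finite.of_injective (fun e : F ≃+* F => (e : F → F)) DFunLike.coe_injective
  have hr0 : 0 < r := hr ▸ orderOf_pos σ
  let ψ : ℕ → (ι → F) → (ι → F) := fun k v => (normGL σ g k : Matrix ι ι F) *ᵥ fun i => (σ ^ k) (v i)
  have hψadd : ∀ k v w, ψ k (v + w) = ψ k v + ψ k w := fun k v w => by
    simp only [ψ]; rw [← mulVec_add]; congr 1; funext i; simp
  have hψsmul : ∀ k (c : F) v, ψ k (c • v) = (σ ^ k) c • ψ k v := fun k c v => by
    simp only [ψ]; rw [← mulVec_smul]; congr 1; funext i; simp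
  have hψsucc : ∀ k v, ψ 1 (ψ k v) = ψ (k + 1) v := by
    intro k v
    simp only [ψ, normGL, map_one, mul_one, pow_one]
    rw [Units.val_mul, ← mulVec_mulVec, fieldMap_coe]
    congr 1
    funext i
    rw [show σ (((normGL σ g k : Matrix ι ι F) *ᵥ fun i => (σ ^ k) (v i)) i) =
      ((normGL σ g k : Matrix ι ι F).map σ *ᵥ (⇑σ ∘ fun i => (σ ^ k) (v i))) i from
      RingHom.map_mulVec (σ : F →+* F) _ _ i]
    refine congrFun (congrArg _ ?_) i
    funext j
    show σ ((σ ^ k) (v j)) = (σ ^ (k + 1)) (v j)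
    rw [pow_succ']; rfl
  have hψr : ∀ v, ψ r v = ψ 0 v := fun v => by
    simp only [ψ]
    rw [hg, show σ ^ r = 1 from pow_orderOf_eq_one σ]
    rfl
  have hψ0 : ∀ v, ψ 0 v = v := fun v => by simp [ψ, normGL]
  have hspan : Submodule.span F {v | ψ 1 v = v} = ⊤ := by
    by_contra hne
    obtain ⟨f, hf0, hfker⟩ := Submodule.exists_le_ker_of_lt_top _ (lt_top_iff_ne_top.mpr hne)
    apply hf0
    apply LinearMap.ext
    intro v
    have hfix : ∀ c : F, f (∑ k ∈ Finset.range r, ψ k (c • v)) = 0 := fun c => by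
      refine LinearMap.mem_ker.mp (hfker (Submodule.subset_span ?_))
      show ψ 1 (∑ k ∈ Finset.range r, ψ k (c • v)) = _
      have hsum : ψ 1 (∑ k ∈ Finset.range r, ψ k (c • v)) =
          ∑ k ∈ Finset.range r, ψ 1 (ψ k (c • v)) :=
        map_sum (AddMonoidHom.mk' (ψ 1) (hψadd 1)) _ _
      rw [hsum]
      simp only [hψsucc]
      have h1 := Finset.sum_range_succ' (fun k => ψ k (c • v)) r
      have h2 := Finset.sum_range_succ (fun k => ψ k (c • v)) r
      rw [h2, hψr] at h1
      exact (add_right_cancel h1).symm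
    let χ : Fin r → (F →* F) := fun k => ((σ ^ (k : ℕ)).toRingHom : F →* F)
    have hχ : Function.Injective χ := by
      intro a b h
      apply Fin.ext
      exact pow_injOn_Iio_orderOf (by simp [← hr, a.isLt]) (by simp [← hr, b.isLt])
        (RingEquiv.ext fun x => DFunLike.congr_fun h x)
    have hli := (linearIndependent_monoidHom F F).comp χ hχ
    rw [Fintype.linearIndependent_iff] at hli
    have := hli (fun k => f (ψ k v)) (by
      funext c
      rw [Pi.zero_apply, Finset.sum_apply, ← hfix c, map_sum, ← Fin.sum_univ_eq_sum_range (fun k => f (ψ k (c • v))) r]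
      refine Finset.sum_congr rfl fun k _ => ?_
      rw [hψsmul, map_smul, Pi.smul_apply, smul_eq_mul, smul_eq_mul, mul_comm]
      rfl) ⟨0, hr0⟩
    simpa [hψ0] using this
  obtain ⟨x, hx⟩ := exists_gl_of_span _ hspan
  refine ⟨x, eq_mul_inv_of_mul_eq ?_⟩
  apply Units.ext
  ext i j
  have h1 := congrFun (hx j) i
  simp only [ψ, normGL, map_one, mul_one, pow_one] at h1
  rw [Units.val_mul]
  exact h1

/-- `c ↦ c / σ(c)`. -/
def twistU (σ : F ≃+* F) : Fˣ →* Fˣ where
  toFun c := c / Units.map (σ.toRingHom : F →* F) c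
  map_one' := by simp
  map_mul' a b := by simp [mul_div_mul_comm]

omit [Finite F] in
theorem mem_ker_twistU (σ : F ≃+* F) (c : Fˣ) : c ∈ (twistU σ).ker ↔ σ (c : F) = c := by
  rw [MonoidHom.mem_ker]
  show c / Units.map (σ.toRingHom : F →* F) c = 1 ↔ _
  rw [div_eq_one, eq_comm, Units.ext_iff]
  rfl

/-- Hilbert 90 for units. -/
theorem exists_twist (σ : F ≃+* F) (c : Fˣ) (h : normU σ (orderOf σ) c = 1) :
    ∃ d : Fˣ, c = twistU σ d := by
  obtain ⟨x, hx⟩ := hilbert90 (ι := Unit) σ (scalarGL Unit c) (by rw [normGL_scalarGL, h]; exact map_one _)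
  have hd : (x : Matrix Unit Unit F) () () ≠ 0 := by
    intro hz
    have h1 : (x : Matrix Unit Unit F) = 0 := by ext i j; exact hz
    exact x.ne_zero h1
  refine ⟨Units.mk0 _ hd, ?_⟩
  show c = Units.mk0 _ hd / _
  rw [eq_div_iff_mul_eq']
  rw [eq_mul_inv_iff_mul_eq] at hx
  apply Units.ext
  have h2 := congrArg (fun M : GL Unit F => (M : Matrix Unit Unit F) () ()) hx
  simpa [Matrix.mul_apply, scalarGL_coe, fieldMap_coe] using h2

theorem twistU_norm (σ : F ≃+* F) (d : Fˣ) : normU σ (orderOf σ) (twistU σ d) = 1 := by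
  show normU σ (orderOf σ) (d / Units.map (σ.toRingHom : F →* F) d) = 1
  rw [map_div, div_eq_one]
  apply Units.ext
  show ((∏ i ∈ Finset.range (orderOf σ), Units.map ((σ ^ i).toRingHom : F →* F) d : Fˣ) : F) =
    ((∏ i ∈ Finset.range (orderOf σ), Units.map ((σ ^ i).toRingHom : F →* F) (Units.map (σ.toRingHom : F →* F) d) : Fˣ) : F)
  rw [Units.coe_prod, Units.coe_prod]
  show ∏ i ∈ Finset.range (orderOf σ), (σ ^ i) (d : F) = ∏ i ∈ Finset.range (orderOf σ), (σ ^ i) (σ (d : F))
  have h1 := Finset.prod_range_succ (fun i => (σ ^ i) (d : F)) (orderOf σ)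
  have h2 := Finset.prod_range_succ' (fun i => (σ ^ i) (d : F)) (orderOf σ)
  rw [h1, pow_orderOf_eq_one, pow_zero] at h2
  refine (mul_right_cancel₀ d.ne_zero (h2.trans ?_))
  congr 1

theorem range_twistU (σ : F ≃+* F) : (twistU σ).range = (normU σ (orderOf σ)).ker := by
  apply le_antisymm
  · rintro _ ⟨d, rfl⟩
    exact twistU_norm σ d
  · intro c hc
    obtain ⟨d, hd⟩ := exists_twist σ c hc
    exact ⟨d, hd.symm⟩

theorem normU_fixed (σ : F ≃+* F) (c : Fˣ) :
    σ ((normU σ (orderOf σ) c : Fˣ) : F) = (normU σ (orderOf σ) c : Fˣ) := by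
  have h := normGL_fixed (ι := Unit) σ (scalarGL Unit c) (pow_orderOf_eq_one σ)
  rw [normGL_scalarGL, fieldMap_scalarGL, ← map_mul, ← map_mul] at h
  have h2 := scalarGL_injective h
  rw [mul_comm (normU σ _ c) c] at h2
  exact congrArg Units.val (mul_left_cancel h2)

/-- The norm onto the fixed field is surjective. -/
theorem exists_norm_eq (σ : F ≃+* F) (c : Fˣ) (hc : σ (c : F) = c) :
    ∃ d : Fˣ, normU σ (orderOf σ) d = c := by
  have hle : (normU σ (orderOf σ)).range ≤ (twistU σ).ker := by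
    rintro _ ⟨d, rfl⟩
    exact (mem_ker_twistU σ _).mpr (normU_fixed σ d)
  have h1 := Subgroup.card_mul_index (normU σ (orderOf σ)).ker
  have h2 := Subgroup.card_mul_index (twistU σ).ker
  rw [Subgroup.index_ker] at h1 h2
  rw [← range_twistU] at h1
  have hcard : Nat.card (twistU σ).ker = Nat.card (normU σ (orderOf σ)).range := by
    have h3 : 0 < Nat.card (twistU σ).range := Nat.card_pos
    exact Nat.eq_of_mul_eq_mul_left h3 (by rw [h1, mul_comm, h2])
  have := Subgroup.eq_of_le_of_card_ge hle hcard.le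
  exact MonoidHom.mem_range.mp (this ▸ (mem_ker_twistU σ c).mpr hc)

omit [Finite F] in
theorem normU_two (σ : F ≃+* F) (d : Fˣ) : ((normU σ 2 d : Fˣ) : F) = (d : F) * σ (d : F) := by
  show ((∏ i ∈ Finset.range 2, Units.map ((σ ^ i).toRingHom : F →* F) d : Fˣ) : F) = _
  rw [Finset.prod_range_succ, Finset.prod_range_one, pow_zero, pow_one]
  rfl

/-- A non-degenerate Hermitian matrix over a finite field is `h σ(h)ᵀ`. -/
theorem hermitian_decomp {n : ℕ} (σ : F ≃+* F) (hσ : orderOf σ = 2) (H : GL (Fin n) F)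
    (hH : ((H : Matrix (Fin n) (Fin n) F).map σ)ᵀ = (H : Matrix (Fin n) (Fin n) F)) :
    ∃ h : GL (Fin n) F, (H : Matrix (Fin n) (Fin n) F) =
      (h : Matrix (Fin n) (Fin n) F) * ((h : Matrix (Fin n) (Fin n) F).map σ)ᵀ := by
  classical
  have hσ2 : ∀ x, σ (σ x) = x := by
    intro x
    have : σ ^ 2 = 1 := hσ ▸ pow_orderOf_eq_one σ
    rw [pow_two] at this
    exact DFunLike.congr_fun this x
  let B : (Fin n → F) → (Fin n → F) → F := fun u v => u ⬝ᵥ ((H : Matrix (Fin n) (Fin n) F) *ᵥ (⇑σ ∘ v))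
  have hsymm : ∀ u v, σ (B u v) = B v u := by
    intro u v
    show σ (u ⬝ᵥ _) = v ⬝ᵥ _
    rw [show σ (u ⬝ᵥ (↑H *ᵥ (⇑σ ∘ v))) = (⇑σ ∘ u) ⬝ᵥ (⇑σ ∘ (↑H *ᵥ (⇑σ ∘ v))) from
      RingHom.map_dotProduct (σ : F →+* F) _ _]
    have e1 : ⇑σ ∘ ((H : Matrix (Fin n) (Fin n) F) *ᵥ (⇑σ ∘ v)) = (H : Matrix (Fin n) (Fin n) F)ᵀ *ᵥ v := by
      funext i
      show σ _ = _
      rw [show σ (((H : Matrix (Fin n) (Fin n) F) *ᵥ (⇑σ ∘ v)) i) =
        ((H : Matrix (Fin n) (Fin n) F).map σ *ᵥ (⇑σ ∘ (⇑σ ∘ v))) i from RingHom.map_mulVec (σ : F →+* F) _ _ i]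
      conv_rhs => rw [← hH, Matrix.transpose_transpose]
      congr 2
      funext j; exact hσ2 (v j)
    rw [e1, Matrix.mulVec_transpose, dotProduct_comm, ← Matrix.dotProduct_mulVec]
  have haddl : ∀ u u' v, B (u + u') v = B u v + B u' v := fun u u' v => add_dotProduct _ _ _
  have hsmull : ∀ (c : F) u v, B (c • u) v = c * B u v := fun c u v => smul_dotProduct _ _ _
  have haddr : ∀ u v v', B u (v + v') = B u v + B u v' := by
    intro u v v'
    rw [← hsymm (v + v'), haddl, map_add, hsymm, hsymm]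
  have hsmulr : ∀ (c : F) u v, B u (c • v) = σ c * B u v := by
    intro c u v
    rw [← hsymm (c • v), hsmull, map_mul, hsymm]
  have hnd : ∀ u, (∀ v, B u v = 0) → u = 0 := by
    intro u hu
    have h2 : u ᵥ* (H : Matrix (Fin n) (Fin n) F) = 0 := by
      funext j
      have := hu (Pi.single j 1)
      have e1 : ⇑σ ∘ (Pi.single j (1 : F) : Fin n → F) = Pi.single j 1 := by
        funext x; by_cases hx : x = j <;> simp [hx]
      simp only [B] at this
      rw [e1, dotProduct_mulVec, dotProduct_single, mul_one] at this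
      exact this
    have h3 := congrArg (fun w => w ᵥ* ((H⁻¹ : GL (Fin n) F) : Matrix (Fin n) (Fin n) F)) h2
    simp only [vecMul_vecMul, ← Units.val_mul, mul_inv_cancel, Units.val_one, vecMul_one, zero_vecMul] at h3
    exact h3
  have hne1 : σ ≠ 1 := by intro h; rw [h, orderOf_one] at hσ; omega
  have main : ∀ k ≤ n, ∃ v : Fin k → (Fin n → F), ∀ i j, B (v i) (v j) = if i = j then 1 else 0 := by
    intro k
    induction k with
    | zero => exact fun _ => ⟨fun i => i.elim0, fun i => i.elim0⟩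
    | succ k ih =>
      intro hk
      obtain ⟨v, hv⟩ := ih (by omega)
      let T : (Fin n → F) →ₗ[F] (Fin k → F) :=
        { toFun := fun u i => B u (v i)
          map_add' := fun u u' => funext fun i => haddl u u' (v i)
          map_smul' := fun c u => funext fun i => hsmull c u (v i) }
      obtain ⟨w0, hw0, hw0ne⟩ := Submodule.exists_mem_ne_zero_of_ne_bot
        (LinearMap.ker_ne_bot_of_finrank_lt (f := T) (by simp; omega))
      obtain ⟨w, hw, hBw⟩ : ∃ w, T w = 0 ∧ B w w ≠ 0 := by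
        by_contra hno
        push Not at hno
        have hiso : ∀ a b, T a = 0 → T b = 0 → B a b = 0 := by
          intro a b ha hb
          by_contra hab
          have h2 : ∀ y : F, y + σ y = 0 := by
            intro y
            have := hno (σ.symm (y / B a b) • b + a) (by rw [map_add, map_smul, hb, ha, smul_zero, add_zero])
            rw [haddl, haddr, haddr, hno _ (by rw [map_smul, hb, smul_zero]), hno a ha, hsmull, hsmulr,
              RingEquiv.apply_symm_apply, div_mul_cancel₀ _ hab, zero_add, add_zero, add_comm] at this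
            rw [← hsymm a b] at this
            have e : σ y = σ.symm (y / B a b) * σ (B a b) := by
              have h3 : y = (y / B a b) * B a b := (div_mul_cancel₀ _ hab).symm
              conv_lhs => rw [h3, map_mul]
              congr 1
              apply σ.injective
              rw [RingEquiv.apply_symm_apply, hσ2]
            rw [e]; linear_combination this
          apply hne1
          apply RingEquiv.ext
          intro y
          have h1 := h2 1
          rw [map_one] at h1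
          have h3 := h2 y
          show σ y = y
          linear_combination h3 - y * h1
        apply hw0ne
        apply hnd
        intro x
        have hy : T (x - ∑ i, B x (v i) • v i) = 0 := by
          funext j
          rw [map_sub, map_sum, Pi.sub_apply, Finset.sum_apply]
          simp only [map_smul, Pi.smul_apply, smul_eq_mul]
          show B x (v j) - ∑ i, B x (v i) * B (v i) (v j) = 0
          simp [hv]
        have e := hiso w0 _ hw0 hy
        have e2 : B w0 x = B w0 (x - ∑ i, B x (v i) • v i) + B w0 (∑ i, B x (v i) • v i) := by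
          rw [← haddr, sub_add_cancel]
        rw [e2, e, zero_add]
        have : B w0 (∑ i, B x (v i) • v i) = ∑ i, B w0 (B x (v i) • v i) :=
          map_sum (AddMonoidHom.mk' (fun y => B w0 y) (haddr w0)) _ _
        rw [this]
        refine Finset.sum_eq_zero fun i _ => ?_
        rw [hsmulr, show B w0 (v i) = 0 from congrFun (LinearMap.mem_ker.mp hw0) i, mul_zero]
      obtain ⟨d, hd⟩ := exists_norm_eq σ (Units.mk0 _ hBw)⁻¹ (by
        rw [Units.val_inv_eq_inv_val, Units.val_mk0, map_inv₀, hsymm])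
      have hd' : (d : F) * σ (d : F) * B w w = 1 := by
        rw [← normU_two, ← hσ, hd, Units.val_inv_eq_inv_val, Units.val_mk0, inv_mul_cancel₀ hBw]
      refine ⟨Fin.snoc v ((d : F) • w), fun i j => ?_⟩
      have hwv : ∀ i, B w (v i) = 0 := fun i => congrFun hw i
      refine Fin.lastCases ?_ (fun i => ?_) i <;> refine Fin.lastCases ?_ (fun j => ?_) j
      · rw [Fin.snoc_last, hsmull, hsmulr, if_pos rfl, ← mul_assoc, hd']
      · rw [Fin.snoc_last, Fin.snoc_castSucc, hsmull, hwv, mul_zero,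
          if_neg (Fin.castSucc_lt_last j).ne']
      · rw [Fin.snoc_last, Fin.snoc_castSucc, hsmulr, ← hsymm w, hwv, map_zero, mul_zero,
          if_neg (Fin.castSucc_lt_last i).ne]
      · simp only [Fin.snoc_castSucc, hv, Fin.castSucc_inj]
  obtain ⟨v, hv⟩ := main n le_rfl
  let P : Matrix (Fin n) (Fin n) F := Matrix.of v
  have hP : P * (H : Matrix (Fin n) (Fin n) F) * (P.map σ)ᵀ = 1 := by
    ext i j
    rw [Matrix.one_apply, ← hv i j, Matrix.mul_apply]
    show _ = v i ⬝ᵥ ((H : Matrix (Fin n) (Fin n) F) *ᵥ (⇑σ ∘ v j))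
    rw [dotProduct_mulVec]
    refine Finset.sum_congr rfl fun k _ => ?_
    rfl
  have hPu : IsUnit P.det := by
    have h2 : P.det * ((H : Matrix (Fin n) (Fin n) F).det * (P.map σ)ᵀ.det) = 1 := by
      rw [← Matrix.det_mul, ← Matrix.det_mul, ← Matrix.mul_assoc, hP, Matrix.det_one]
    exact isUnit_iff_exists_inv.mpr ⟨_, h2⟩
  let Q : GL (Fin n) F := Matrix.GeneralLinearGroup.mk'' P hPu
  refine ⟨Q⁻¹, ?_⟩
  have hT : (P.map σ)ᵀ * (((Q⁻¹ : GL (Fin n) F) : Matrix (Fin n) (Fin n) F).map σ)ᵀ = 1 := by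
    rw [← Matrix.transpose_mul]
    have : ((Q⁻¹ : GL (Fin n) F) : Matrix (Fin n) (Fin n) F).map σ * P.map σ =
        ((fieldMap σ (Q⁻¹ * Q) : GL (Fin n) F) : Matrix (Fin n) (Fin n) F) := by
      rw [map_mul, Units.val_mul]; rfl
    rw [this, inv_mul_cancel, map_one, Units.val_one, Matrix.transpose_one]
  have hQ : ((Q⁻¹ : GL (Fin n) F) : Matrix (Fin n) (Fin n) F) * P = 1 := by
    rw [show P = (Q : Matrix (Fin n) (Fin n) F) from rfl, ← Units.val_mul, inv_mul_cancel, Units.val_one]
  calc (H : Matrix (Fin n) (Fin n) F) = ((Q⁻¹ : GL (Fin n) F) : Matrix (Fin n) (Fin n) F) * P * H *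
        ((P.map σ)ᵀ * (((Q⁻¹ : GL (Fin n) F) : Matrix (Fin n) (Fin n) F).map σ)ᵀ) := by
        rw [hT, hQ, Matrix.one_mul, Matrix.mul_one]
    _ = ((Q⁻¹ : GL (Fin n) F) : Matrix (Fin n) (Fin n) F) * (P * H * (P.map σ)ᵀ) *
        (((Q⁻¹ : GL (Fin n) F) : Matrix (Fin n) (Fin n) F).map σ)ᵀ := by
        simp only [Matrix.mul_assoc]
    _ = _ := by rw [hP, Matrix.mul_one]

end Cfsg.Agent.AutPSL
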