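import Mathlib
import Cfsg.Agent.AutPSL.Descent

/-!
Fixed fields of automorphisms of finite fields (helper60).
-/

set_option autoImplicit false

namespace Cfsg.Agent.AutPSL

universe u v

variable {F : Type u} [Field F] [Fintype F]

theorem card_fixed_pow (σ : F ≃+* F) :
    Nat.card {x : F // σ x = x} ^ orderOf σ = Nat.card F := by
  classical
  haveI : Finite (F ≃+* F) := Finite.of_injective (fun e : F ≃+* F => (e : F → F)) DFunLike.coe_injective
  let G := Subgroup.zpowers σ
  haveI : Fintype G := Fintype.ofFinite G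
  let L := FixedPoints.subfield G F
  have h1 : Module.finrank L F = orderOf σ := by
    rw [FixedPoints.finrank_eq_card, ← Nat.card_eq_fintype_card, Nat.card_zpowers]
  have h2 : Nat.card F = Nat.card L ^ Module.finrank L F := Module.natCard_eq_pow_finrank
  rw [h2, h1]
  congr 1
  refine Nat.card_congr (Equiv.subtypeEquivRight fun x => ?_)
  constructor
  · intro hx g
    obtain ⟨g, k, rfl⟩ := g
    show (σ ^ k) x = x
    have hk : ∀ m : ℕ, (σ ^ m) x = x := by
      intro m
      induction m with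
      | zero => rfl
      | succ m ih => rw [pow_succ]; show (σ ^ m) (σ x) = x; rw [hx, ih]
    obtain ⟨m, hm⟩ := k.eq_nat_or_neg
    rcases hm with rfl | rfl
    · exact hk m
    · rw [zpow_neg, zpow_natCast]
      show (σ ^ m)⁻¹ x = x
      conv_lhs => rw [← hk m]
      exact RingEquiv.symm_apply_apply _ _
  · intro hx
    exact hx ⟨σ, Subgroup.mem_zpowers σ⟩

theorem card_fixed_eq {σ : F ≃+* F} {r : ℕ} (hr : orderOf σ = r) {p f : ℕ} (hp : p.Prime)
    (hF : Fintype.card F = p ^ f) (hf : 1 ≤ f) :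
    r ∣ f ∧ Nat.card {x : F // σ x = x} = p ^ (f / r) := by
  haveI : Finite (F ≃+* F) := Finite.of_injective (fun e : F ≃+* F => (e : F → F)) DFunLike.coe_injective
  have h := card_fixed_pow σ
  rw [hr, Nat.card_eq_fintype_card (α := F), hF] at h
  have hr0 : r ≠ 0 := hr ▸ (orderOf_pos σ).ne'
  have hd : Nat.card {x : F // σ x = x} ∣ p ^ f := h ▸ dvd_pow_self _ hr0
  obtain ⟨k, -, hk⟩ := (Nat.dvd_prime_pow hp).mp hd
  rw [hk, ← pow_mul] at h
  have := Nat.pow_right_injective hp.two_le h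
  subst this
  refine ⟨dvd_mul_left r k, ?_⟩
  rw [hk, Nat.mul_div_cancel k (Nat.pos_of_ne_zero hr0)]

theorem exists_fixed_embedding (σ : F ≃+* F) (F₀ : Type v) [Field F₀] [Fintype F₀]
    (h : Fintype.card F₀ = Nat.card {x : F // σ x = x}) :
    ∃ i : F₀ →+* F, ∀ x : F, σ x = x ↔ ∃ y, i y = x := by
  classical
  let L : Subfield F := (σ.toRingHom).eqLocusField (RingHom.id F)
  haveI : Fintype L := Fintype.ofFinite L
  have hL : Fintype.card F₀ = Fintype.card L := by
    rw [h, ← Nat.card_eq_fintype_card]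
    rfl
  let e : F₀ ≃+* L := FiniteField.ringEquivOfCardEq hL
  refine ⟨L.subtype.comp e.toRingHom, fun x => ⟨fun hx => ⟨e.symm ⟨x, hx⟩, ?_⟩, ?_⟩⟩
  · show ((e (e.symm ⟨x, hx⟩) : L) : F) = x
    rw [e.apply_symm_apply]
  · rintro ⟨y, rfl⟩
    exact (e y).2

theorem exists_frobenius_pow (σ : F ≃+* F) {p : ℕ} [Fact p.Prime] [CharP F p] :
    ∃ k : ℕ, ∀ x, σ x = x ^ p ^ k := by
  letI : Algebra (ZMod p) F := ZMod.algebra F p
  let σ' : F ≃ₐ[ZMod p] F := AlgEquiv.ofRingEquiv (f := σ) (fun c => by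
    rw [← RingEquiv.coe_toRingHom, ← RingHom.comp_apply]
    congr 1
    exact Subsingleton.elim _ _)
  obtain ⟨k, hk⟩ := (FiniteField.bijective_frobeniusAlgEquivOfAlgebraic_pow (ZMod p) F).2 σ'
  refine ⟨k, fun x => ?_⟩
  have h2 : σ' x = x ^ p ^ (k : ℕ) := by
    rw [← hk]
    show ((FiniteField.frobeniusAlgEquivOfAlgebraic (ZMod p) F) ^ (k : ℕ)) x = _
    rw [AlgEquiv.coe_pow, FiniteField.coe_frobeniusAlgEquivOfAlgebraic_iterate]
    simp [ZMod.card]
  exact h2

theorem ringAut_comm (σ τ : F ≃+* F) : σ * τ = τ * σ := by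
  obtain ⟨p, hp⟩ := CharP.exists F
  haveI : Fact p.Prime := ⟨CharP.char_is_prime F p⟩
  obtain ⟨a, ha⟩ := exists_frobenius_pow (p := p) σ
  obtain ⟨b, hb⟩ := exists_frobenius_pow (p := p) τ
  apply RingEquiv.ext
  intro x
  show σ (τ x) = τ (σ x)
  rw [ha, hb, hb, ha, ← pow_mul, ← pow_mul, mul_comm]

theorem involution_eq_pow {σ : F ≃+* F} (hσ : orderOf σ = 2) {p f : ℕ} (hp : p.Prime)
    (hF : Fintype.card F = p ^ f) (hf : 1 ≤ f) (x : F) : σ x = x ^ p ^ (f / 2) := by
  haveI : Fact p.Prime := ⟨hp⟩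
  haveI : CharP F p := by
    obtain ⟨c, hc⟩ := CharP.exists F
    haveI := hc
    obtain ⟨m, hcp, hm⟩ := FiniteField.card F c
    rw [hm] at hF
    obtain rfl : c = p := (Nat.prime_dvd_prime_iff_eq hcp hp).mp
      (hcp.dvd_of_dvd_pow (hF ▸ dvd_pow_self c m.ne_zero))
    exact hc
  obtain ⟨k, hk⟩ := exists_frobenius_pow (p := p) σ
  -- reduce the exponent modulo `f`
  have hmod : ∀ y : F, y ^ p ^ k = y ^ p ^ (k % f) := by
    intro y
    conv_lhs => rw [← Nat.mod_add_div k f, pow_add, pow_mul]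
    rw [pow_mul p f, ← hF, FiniteField.pow_card_pow]
  have hk' : ∀ y, σ y = y ^ p ^ (k % f) := fun y => (hk y).trans (hmod y)
  have h2 : σ ^ 2 = 1 := hσ ▸ pow_orderOf_eq_one σ
  obtain ⟨a, ha⟩ := IsCyclic.exists_generator (α := Fˣ)
  have horder : orderOf a = p ^ f - 1 := by
    rw [orderOf_eq_card_of_forall_mem_zpowers ha, Nat.card_units, Nat.card_eq_fintype_card, hF]
  have hpow : a ^ p ^ (k % f + k % f) = a := by
    apply Units.ext
    have h3 := DFunLike.congr_fun h2 (a : F)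
    rw [pow_two] at h3
    change σ (σ (a : F)) = a at h3
    rw [hk', hk', ← pow_mul, ← pow_add] at h3
    simpa using h3
  have hlt : k % f < f := Nat.mod_lt _ (by omega)
  have hne : k % f ≠ 0 := by
    intro h0
    have : σ = 1 := RingEquiv.ext fun y => by rw [hk', h0]; simp
    rw [this, orderOf_one] at hσ; omega
  have hdiv : f ∣ k % f + k % f := by
    have h4 : p ^ f - 1 ∣ p ^ (k % f + k % f) - 1 := by
      rw [← horder, orderOf_dvd_iff_pow_eq_one]
      have h5 : 1 ≤ p ^ (k % f + k % f) := Nat.one_le_pow _ _ hp.pos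
      have h6 : a * a ^ (p ^ (k % f + k % f) - 1) = a * 1 := by
        rw [← pow_succ', Nat.sub_add_cancel h5, mul_one]; exact hpow
      exact mul_left_cancel h6
    have h7 := Nat.pow_sub_one_gcd_pow_sub_one p f (k % f + k % f)
    rw [Nat.gcd_eq_left h4] at h7
    have h8 : p ^ f = p ^ Nat.gcd f (k % f + k % f) := by
      have e1 : 1 ≤ p ^ f := Nat.one_le_pow _ _ hp.pos
      have e2 : 1 ≤ p ^ Nat.gcd f (k % f + k % f) := Nat.one_le_pow _ _ hp.pos
      omega
    exact dvd_trans (dvd_of_eq (Nat.pow_right_injective hp.two_le h8)) (Nat.gcd_dvd_right _ _)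
  obtain ⟨c, hc⟩ := hdiv
  have hcl : c = 1 := by
    rcases c with _ | _ | c
    · omega
    · rfl
    · exfalso; nlinarith
  subst hcl
  rw [hk', show f / 2 = k % f by omega]

theorem index_sup_powMonoidHom {G : Type v} [CommGroup G] [IsCyclic G] [Finite G] (K : Subgroup G) (n : ℕ) :
    (K ⊔ (powMonoidHom n : G →* G).range).index = Nat.gcd n K.index := by
  haveI : IsCyclic (G ⧸ K) := isCyclic_of_surjective (QuotientGroup.mk' K) (QuotientGroup.mk'_surjective K)
  have h := IsCyclic.index_powMonoidHom_range (G := G ⧸ K) n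
  have hmap : (powMonoidHom n : G ⧸ K →* G ⧸ K).range =
      ((powMonoidHom n : G →* G).range).map (QuotientGroup.mk' K) := by
    rw [MonoidHom.map_range]
    ext x
    simp only [MonoidHom.mem_range, MonoidHom.comp_apply, powMonoidHom_apply, map_pow]
    constructor
    · rintro ⟨y, rfl⟩
      obtain ⟨z, rfl⟩ := QuotientGroup.mk'_surjective K y
      exact ⟨z, rfl⟩
    · rintro ⟨z, rfl⟩
      exact ⟨_, rfl⟩
  rw [hmap, Subgroup.index_map, MonoidHom.range_eq_top_of_surjective _ (QuotientGroup.mk'_surjective K),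
    Subgroup.index_top, mul_one, QuotientGroup.ker_mk'] at h
  rw [sup_comm, h, ← Subgroup.index_eq_card, Nat.gcd_comm]

end Cfsg.Agent.AutPSL
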