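import Mathlib

/-!
Transvections `1 + a bᵀ` (`b ⬝ a = 0`) in `SL` and their images in `PSL` (helper60).
-/

set_option autoImplicit false

namespace Cfsg.Agent.AutPSL

open Matrix

universe u

variable {ι : Type} [Fintype ι] [DecidableEq ι] {F : Type u} [Field F]

/-- The matrix `1 + a bᵀ`. -/
def tauM (a b : ι → F) : Matrix ι ι F := 1 + vecMulVec a b

theorem tauM_mulVec (a b x : ι → F) : tauM a b *ᵥ x = x + (b ⬝ᵥ x) • a := by
  rw [tauM, add_mulVec, one_mulVec, vecMulVec_mulVec]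
  congr 1
  funext i
  simp [mul_comm]

theorem tauM_det {a b : ι → F} (h : b ⬝ᵥ a = 0) : (tauM a b).det = 1 := by
  rw [tauM, vecMulVec_eq Unit, det_one_add_replicateCol_mul_replicateRow, h, add_zero]

theorem vecMulVec_mul_self {a b : ι → F} (h : b ⬝ᵥ a = 0) (c d : ι → F) :
    vecMulVec c b * vecMulVec a d = 0 := by
  ext i j
  simp only [mul_apply, vecMulVec_apply, Matrix.zero_apply]
  calc ∑ k, c i * b k * (a k * d j) = c i * d j * (b ⬝ᵥ a) := by
        rw [dotProduct, Finset.mul_sum]; exact Finset.sum_congr rfl fun k _ => by ring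
    _ = 0 := by rw [h, mul_zero]

theorem vecMulVec_mul_vecMulVec' (a b c d : ι → F) :
    vecMulVec a b * vecMulVec c d = (b ⬝ᵥ c) • vecMulVec a d := by
  ext i j
  simp only [mul_apply, vecMulVec_apply, Matrix.smul_apply, smul_eq_mul, dotProduct, Finset.sum_mul]
  exact Finset.sum_congr rfl fun k _ => by ring

/-- A transvection as an element of `SL`. -/
def tau (a b : ι → F) (h : b ⬝ᵥ a = 0) : Matrix.SpecialLinearGroup ι F :=
  ⟨tauM a b, tauM_det h⟩

theorem tau_coe (a b : ι → F) (h : b ⬝ᵥ a = 0) :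
    (tau a b h : Matrix ι ι F) = tauM a b := rfl

theorem tau_congr {a b a' b' : ι → F} (h : b ⬝ᵥ a = 0) (h' : b' ⬝ᵥ a' = 0)
    (he : vecMulVec a b = vecMulVec a' b') : tau a b h = tau a' b' h' :=
  Subtype.ext (by rw [tau_coe, tau_coe, tauM, tauM, he])

theorem tau_eq_iff {a b a' b' : ι → F} (h : b ⬝ᵥ a = 0) (h' : b' ⬝ᵥ a' = 0) :
    tau a b h = tau a' b' h' ↔ vecMulVec a b = vecMulVec a' b' := by
  refine ⟨fun he => ?_, tau_congr h h'⟩
  have := congrArg Subtype.val he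
  simpa [tau, tauM] using this

theorem smul_dot {a b : ι → F} (h : b ⬝ᵥ a = 0) (t : F) : b ⬝ᵥ (t • a) = 0 := by
  rw [dotProduct_smul, h, smul_zero]

/-- `t ↦ 1 + t a bᵀ`. -/
def tauHom (a b : ι → F) (h : b ⬝ᵥ a = 0) : Multiplicative F →* Matrix.SpecialLinearGroup ι F where
  toFun t := tau (Multiplicative.toAdd t • a) b (smul_dot h _)
  map_one' := Subtype.ext (by simp [tau, tauM])
  map_mul' s t := Subtype.ext (by
    show tauM _ b = tauM _ b * tauM _ b
    simp only [tauM, toAdd_mul, add_smul, add_vecMulVec, add_mul, mul_add, one_mul, mul_one,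
      vecMulVec_mul_self (smul_dot h _)]
    abel)

theorem outer_eq {a b a' b' : ι → F} (ha : a ≠ 0) (hb : b ≠ 0)
    (he : vecMulVec a b = vecMulVec a' b') : ∃ c : F, c ≠ 0 ∧ a' = c • a ∧ b = c • b' := by
  obtain ⟨i, hi⟩ := Function.ne_iff.mp ha
  obtain ⟨j, hj⟩ := Function.ne_iff.mp hb
  simp only [Pi.zero_apply] at hi hj
  have hent : ∀ k l, a k * b l = a' k * b' l := fun k l => congrFun (congrFun he k) l
  have hb' : b' j ≠ 0 := by
    intro h
    have := hent i j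
    rw [h, mul_zero, mul_eq_zero] at this
    rcases this with h' | h' <;> contradiction
  refine ⟨b j / b' j, div_ne_zero hj hb', ?_, ?_⟩
  · funext k
    rw [Pi.smul_apply, smul_eq_mul, div_mul_eq_mul_div, eq_div_iff hb', ← hent k j]
    ring
  · funext l
    rw [Pi.smul_apply, smul_eq_mul, div_mul_eq_mul_div, eq_div_iff hb']
    have h1 := hent i l
    have h2 := hent i j
    have : a i * (b l * b' j - b j * b' l) = 0 := by linear_combination b' j * h1 - b' l * h2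
    rcases mul_eq_zero.mp this with h | h
    · contradiction
    · linear_combination h

theorem smul_tauM_fix_eq_one {a b x : ι → F} (hx : x ≠ 0) (hab : b ⬝ᵥ a = 0) (c : F)
    (hfix : (c • tauM a b) *ᵥ x = x) : c = 1 := by
  rw [smul_mulVec, tauM_mulVec] at hfix
  have h1 := congrArg (fun y => b ⬝ᵥ y) hfix
  simp only [dotProduct_smul, dotProduct_add, hab, smul_eq_mul, mul_zero, add_zero] at h1
  by_cases hbx : b ⬝ᵥ x = 0
  · rw [hbx, zero_smul, add_zero] at hfix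
    obtain ⟨i, hi⟩ := Function.ne_iff.mp hx
    have := congrFun hfix i
    simp only [Pi.smul_apply, smul_eq_mul] at this
    exact mul_right_cancel₀ hi (this.trans (one_mul _).symm)
  · exact mul_right_cancel₀ hbx (h1.trans (one_mul _).symm)

variable (ι F) in
/-- The quotient map `SL → PSL`. -/
abbrev piPSL : Matrix.SpecialLinearGroup ι F →* Matrix.ProjectiveSpecialLinearGroup ι F :=
  QuotientGroup.mk' _

theorem exists_scalar_of_piPSL_eq {u v : Matrix.SpecialLinearGroup ι F}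
    (h : piPSL ι F u = piPSL ι F v) : ∃ c : F, (u : Matrix ι ι F) = c • (v : Matrix ι ι F) := by
  have h2 : v⁻¹ * u ∈ Subgroup.center _ := QuotientGroup.eq.mp h.symm
  obtain ⟨r, -, hr⟩ := Matrix.SpecialLinearGroup.mem_center_iff.mp h2
  refine ⟨r, ?_⟩
  have h3 : u = v * (v⁻¹ * u) := by group
  rw [h3, Matrix.SpecialLinearGroup.coe_mul, ← hr]
  ext i j
  simp [Matrix.scalar_apply, Matrix.mul_diagonal, mul_comm]

/-- An element fixing a non-zero vector which agrees with a transvection in `PSL` is equal to it. -/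
theorem eq_tau_of_piPSL_eq {a b x : ι → F} (hx : x ≠ 0) (h : b ⬝ᵥ a = 0)
    {u : Matrix.SpecialLinearGroup ι F} (hu : (u : Matrix ι ι F) *ᵥ x = x)
    (he : piPSL ι F u = piPSL ι F (tau a b h)) : u = tau a b h := by
  obtain ⟨c, hc⟩ := exists_scalar_of_piPSL_eq he
  rw [tau_coe] at hc
  have := smul_tauM_fix_eq_one hx h c (by rw [← hc]; exact hu)
  exact Subtype.ext (by rw [hc, this, one_smul]; rfl)

theorem tau_inj {a b a' b' : ι → F} (ha : a ≠ 0) (h : b ⬝ᵥ a = 0) (h' : b' ⬝ᵥ a' = 0)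
    (he : piPSL ι F (tau a b h) = piPSL ι F (tau a' b' h')) :
    vecMulVec a b = vecMulVec a' b' :=
  (tau_eq_iff h h').mp (eq_tau_of_piPSL_eq ha h' (by rw [tau_coe, tauM_mulVec, h, zero_smul, add_zero]) he)

open Classical in
/-- The root subgroup of `PSL` attached to `(a, b)`. -/
noncomputable def root (a b : ι → F) : Subgroup (Matrix.ProjectiveSpecialLinearGroup ι F) :=
  if h : b ⬝ᵥ a = 0 then ((piPSL ι F).comp (tauHom a b h)).range else ⊥

theorem mem_root_iff {a b : ι → F} (h : b ⬝ᵥ a = 0) {x : Matrix.ProjectiveSpecialLinearGroup ι F} :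
    x ∈ root a b ↔ ∃ t : F, x = piPSL ι F (tau (t • a) b (smul_dot h t)) := by
  rw [root, dif_pos h, MonoidHom.mem_range]
  exact ⟨fun ⟨t, ht⟩ => ⟨Multiplicative.toAdd t, ht.symm⟩, fun ⟨t, ht⟩ => ⟨Multiplicative.ofAdd t, ht.symm⟩⟩

theorem tau_mem_root {a b : ι → F} (h : b ⬝ᵥ a = 0) : piPSL ι F (tau a b h) ∈ root a b :=
  (mem_root_iff h).mpr ⟨1, by congr 1; exact tau_congr _ _ (by rw [one_smul])⟩

theorem piPSL_tau_ne_one {a b : ι → F} (ha : a ≠ 0) (hb : b ≠ 0) (h : b ⬝ᵥ a = 0) :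
    piPSL ι F (tau a b h) ≠ 1 := by
  intro he
  have h0 : (0 : ι → F) ⬝ᵥ a = 0 := zero_dotProduct _
  have h1 : piPSL ι F (tau a b h) = piPSL ι F (tau a 0 h0) := by
    rw [he]; symm
    have : tau a 0 h0 = 1 := Subtype.ext (by simp [tau, tauM])
    rw [this, map_one]
  have := tau_inj ha h h0 h1
  simp [ha, hb] at this

theorem smul_dot' {a b : ι → F} (h : b ⬝ᵥ a = 0) (c d : F) : (d • b) ⬝ᵥ (c • a) = 0 := by
  rw [smul_dotProduct, dotProduct_smul, h, smul_zero, smul_zero]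

theorem root_smul {a b : ι → F} (h : b ⬝ᵥ a = 0) {c d : F} (hc : c ≠ 0) (hd : d ≠ 0) :
    root (c • a) (d • b) = root a b := by
  ext x
  rw [mem_root_iff h, mem_root_iff (smul_dot' h c d)]
  constructor
  · rintro ⟨t, rfl⟩
    refine ⟨t * c * d, ?_⟩
    congr 1
    apply tau_congr
    simp only [smul_vecMulVec, vecMulVec_smul, smul_smul]
    congr 1
    ring
  · rintro ⟨t, rfl⟩
    refine ⟨t / (c * d), ?_⟩
    congr 1
    apply tau_congr
    simp only [smul_vecMulVec, vecMulVec_smul, smul_smul]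
    congr 1
    field_simp

/-- A pair defining a root subgroup. -/
structure RootPair (a b : ι → F) : Prop where
  fst_ne : a ≠ 0
  snd_ne : b ≠ 0
  dot : b ⬝ᵥ a = 0

/-- Two vectors span the same line. -/
def Par (a a' : ι → F) : Prop := ∃ c : F, c ≠ 0 ∧ a' = c • a

theorem Par.refl (a : ι → F) : Par a a := ⟨1, one_ne_zero, (one_smul _ _).symm⟩

theorem Par.symm {a a' : ι → F} (h : Par a a') : Par a' a := by
  obtain ⟨c, hc, rfl⟩ := h
  exact ⟨c⁻¹, inv_ne_zero hc, by rw [smul_smul, inv_mul_cancel₀ hc, one_smul]⟩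

theorem Par.trans {a a' a'' : ι → F} (h : Par a a') (h' : Par a' a'') : Par a a'' := by
  obtain ⟨c, hc, rfl⟩ := h
  obtain ⟨d, hd, rfl⟩ := h'
  exact ⟨d * c, mul_ne_zero hd hc, by rw [smul_smul]⟩

theorem Par.dot_eq_zero {a a' b : ι → F} (h : Par a a') (h0 : b ⬝ᵥ a = 0) : b ⬝ᵥ a' = 0 := by
  obtain ⟨c, hc, rfl⟩ := h
  exact smul_dot h0 c

theorem Par.dot_eq_zero' {a b b' : ι → F} (h : Par b b') (h0 : b ⬝ᵥ a = 0) : b' ⬝ᵥ a = 0 := by
  obtain ⟨c, hc, rfl⟩ := h
  rw [smul_dotProduct, h0, smul_zero]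

theorem root_eq_iff {a b a' b' : ι → F} (h : RootPair a b) (h' : RootPair a' b') :
    root a b = root a' b' ↔ Par a a' ∧ Par b b' := by
  constructor
  · intro he
    have hm : piPSL ι F (tau a b h.dot) ∈ root a' b' := he ▸ tau_mem_root h.dot
    obtain ⟨t, ht⟩ := (mem_root_iff h'.dot).mp hm
    have hv := tau_inj h.fst_ne h.dot _ ht
    obtain ⟨c, hc, hca, hcb⟩ := outer_eq h.fst_ne h.snd_ne hv
    have ht0 : t ≠ 0 := by
      rintro rfl
      rw [zero_smul] at hca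
      exact h.fst_ne ((smul_eq_zero.mp hca.symm).resolve_left hc)
    refine ⟨⟨c / t, div_ne_zero hc ht0, ?_⟩, ⟨c⁻¹, inv_ne_zero hc, ?_⟩⟩
    · rw [div_eq_inv_mul, ← smul_smul, ← hca, smul_smul, inv_mul_cancel₀ ht0, one_smul]
    · rw [hcb, smul_smul, inv_mul_cancel₀ hc, one_smul]
  · rintro ⟨⟨c, hc, rfl⟩, ⟨d, hd, rfl⟩⟩
    exact (root_smul h.dot hc hd).symm

theorem dot_conj {a b : ι → F} (h : b ⬝ᵥ a = 0) (g : GL ι F) :
    (b ᵥ* ((g⁻¹ : GL ι F) : Matrix ι ι F)) ⬝ᵥ ((g : Matrix ι ι F) *ᵥ a) = 0 := by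
  rw [dotProduct_mulVec, vecMul_vecMul, ← Units.val_mul, inv_mul_cancel, Units.val_one, vecMul_one, h]

theorem tauM_conj (g : GL ι F) (a b : ι → F) :
    (g : Matrix ι ι F) * tauM a b * ((g⁻¹ : GL ι F) : Matrix ι ι F) =
      tauM ((g : Matrix ι ι F) *ᵥ a) (b ᵥ* ((g⁻¹ : GL ι F) : Matrix ι ι F)) := by
  rw [tauM, tauM, mul_add, add_mul, mul_one, ← Units.val_mul, mul_inv_cancel, Units.val_one,
    mul_vecMulVec, vecMulVec_mul]

theorem tauM_map (σ : F →+* F) (a b : ι → F) :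
    (tauM a b).map σ = tauM (σ ∘ a) (σ ∘ b) := by
  ext i j
  by_cases h : i = j <;> simp [tauM, vecMulVec_apply, h]

theorem dot_map {a b : ι → F} (h : b ⬝ᵥ a = 0) (σ : F →+* F) : (σ ∘ b) ⬝ᵥ (σ ∘ a) = 0 := by
  rw [← RingHom.map_dotProduct, h, map_zero]

end Cfsg.Agent.AutPSL
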