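import Mathlib
import Cfsg.Agent.AutPSL.Transvection

/-!
The upper unitriangular group is a Sylow subgroup of `SL_n(q)`; the centre of its image in `PSL_n(q)`
is the standard root subgroup (helper60).
-/

set_option autoImplicit false

namespace Cfsg.Agent.AutPSL

open Matrix

universe u

variable {n : ℕ} {F : Type u} [Field F]

/-- The standard basis vector. -/
abbrev e (i : Fin n) : Fin n → F := Pi.single i 1

theorem dot_e {i j : Fin n} (h : i ≠ j) : (e j : Fin n → F) ⬝ᵥ e i = 0 := by
  simp [e, single_dotProduct, h]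

theorem vecMulVec_e (i j : Fin n) (c : F) :
    vecMulVec (c • (e i : Fin n → F)) (e j) = Matrix.single i j c := by
  ext k l
  simp only [vecMulVec_apply, Pi.smul_apply, smul_eq_mul, e, Pi.single_apply, Matrix.single_apply]
  by_cases hk : k = i <;> by_cases hl : l = j <;> simp [hk, hl, Ne.symm]

theorem tau_eq_transvection {i j : Fin n} (h : i ≠ j) (c : F) :
    tau (c • e i) (e j) (smul_dot (dot_e h) c) = Matrix.SpecialLinearGroup.transvection h c := by
  apply Subtype.ext
  rw [tau_coe, Matrix.SpecialLinearGroup.transvection_coe, tauM, vecMulVec_e]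

/-- Upper unitriangular matrices. -/
def IsUni (A : Matrix (Fin n) (Fin n) F) : Prop :=
  ∀ i j : Fin n, j ≤ i → A i j = if i = j then 1 else 0

theorem isUni_one : IsUni (1 : Matrix (Fin n) (Fin n) F) := fun i j _ => Matrix.one_apply

theorem IsUni.mul {A B : Matrix (Fin n) (Fin n) F} (hA : IsUni A) (hB : IsUni B) : IsUni (A * B) := by
  intro i k hki
  rw [Matrix.mul_apply, Finset.sum_eq_single i]
  · rw [hA i i le_rfl, if_pos rfl, one_mul, hB i k hki]
  · intro j _ hj
    by_cases h : j ≤ i
    · rw [hA i j h, if_neg (Ne.symm hj), zero_mul]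
    · have hkj : k < j := lt_of_le_of_lt hki (not_le.mp h)
      rw [hB j k hkj.le, if_neg hkj.ne', mul_zero]
  · simp

theorem IsUni.sub_one_pow {A : Matrix (Fin n) (Fin n) F} (hA : IsUni A) (m : ℕ) :
    ∀ i k : Fin n, (k : ℕ) < i + m → ((A - 1) ^ m) i k = 0 := by
  induction m with
  | zero =>
    intro i k h
    rw [pow_zero, Matrix.one_apply, if_neg]
    intro hik; subst hik; omega
  | succ m ih =>
    intro i k h
    rw [pow_succ', Matrix.mul_apply]
    apply Finset.sum_eq_zero
    intro j _
    by_cases hj : j ≤ i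
    · rw [Matrix.sub_apply, hA i j hj, Matrix.one_apply, sub_self, zero_mul]
    · rw [ih j k (by have := not_le.mp hj; omega), mul_zero]

variable [Fintype F]

variable (n F) in
/-- The group of upper unitriangular matrices. -/
noncomputable def uni : Subgroup (Matrix.SpecialLinearGroup (Fin n) F) where
  carrier := {s | IsUni (s : Matrix (Fin n) (Fin n) F)}
  mul_mem' := fun {a b} ha hb => by
    show IsUni ((a * b : Matrix.SpecialLinearGroup (Fin n) F) : Matrix (Fin n) (Fin n) F)
    rw [Matrix.SpecialLinearGroup.coe_mul]; exact ha.mul hb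
  one_mem' := by
    show IsUni ((1 : Matrix.SpecialLinearGroup (Fin n) F) : Matrix (Fin n) (Fin n) F)
    rw [Matrix.SpecialLinearGroup.coe_one]; exact isUni_one
  inv_mem' := fun {a} ha => by
    classical
    show IsUni _
    have hpow : ∀ k : ℕ, IsUni ((a ^ k : Matrix.SpecialLinearGroup (Fin n) F) : Matrix (Fin n) (Fin n) F) := by
      intro k
      induction k with
      | zero => rw [pow_zero, Matrix.SpecialLinearGroup.coe_one]; exact isUni_one
      | succ k ih => rw [pow_succ, Matrix.SpecialLinearGroup.coe_mul]; exact ih.mul ha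
    have h : a⁻¹ = a ^ (orderOf a - 1) := by
      have h1 := pow_orderOf_eq_one a
      have h2 := orderOf_pos a
      rw [show orderOf a = orderOf a - 1 + 1 by omega, pow_succ] at h1
      exact (eq_inv_of_mul_eq_one_left h1).symm
    rw [h]; exact hpow _

theorem mem_uni {s : Matrix.SpecialLinearGroup (Fin n) F} :
    s ∈ uni n F ↔ IsUni (s : Matrix (Fin n) (Fin n) F) := Iff.rfl

theorem tau_e_mem_uni {i j : Fin n} (h : i < j) (c : F) :
    tau (c • e i) (e j) (smul_dot (dot_e h.ne) c) ∈ uni n F := by
  rw [mem_uni, tau_eq_transvection h.ne, Matrix.SpecialLinearGroup.transvection_coe]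
  intro k l hlk
  rw [Matrix.add_apply, Matrix.single_apply, if_neg, add_zero, Matrix.one_apply]
  rintro ⟨rfl, rfl⟩
  exact absurd hlk (not_le.mpr h)

variable (p : ℕ) [Fact p.Prime] [CharP F p]

include p in
theorem isPGroup_uni : IsPGroup p (uni n F) := by
  classical
  intro s
  refine ⟨n, Subtype.ext (Subtype.ext ?_)⟩
  rcases Nat.eq_zero_or_pos n with hn | hn
  · subst hn; ext i; exact i.elim0
  haveI : Nonempty (Fin n) := ⟨⟨0, hn⟩⟩
  set A : Matrix (Fin n) (Fin n) F := ((s : Matrix.SpecialLinearGroup (Fin n) F) : Matrix (Fin n) (Fin n) F)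
  show ((s : Matrix.SpecialLinearGroup (Fin n) F) ^ p ^ n).1 = _
  rw [Matrix.SpecialLinearGroup.coe_pow]
  show A ^ p ^ n = 1
  have h1 : (A - 1) ^ n = 0 := by
    ext i k
    exact (show IsUni A from s.2).sub_one_pow n i k (by omega)
  have h2 : (A - 1) ^ p ^ n = 0 :=
    pow_eq_zero_of_le (Nat.le_of_lt (Nat.lt_pow_self (Fact.out : p.Prime).one_lt)) h1
  rwa [sub_pow_char_pow_of_commute p n (Commute.one_right A), one_pow, sub_eq_zero] at h2

include p in
theorem uni_maximal (P : Subgroup (Matrix.SpecialLinearGroup (Fin n) F)) (hP : IsPGroup p P)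
    (hle : uni n F ≤ P) : P = uni n F := by
  classical
  refine le_antisymm ?_ hle
  have main : ∀ k : ℕ, ∀ s ∈ P, ∀ j : Fin n, (j : ℕ) < k → ∀ i : Fin n, j ≤ i →
      (s : Matrix (Fin n) (Fin n) F) i j = if i = j then 1 else 0 := by
    intro k
    induction k with
    | zero => intro s _ j hj; omega
    | succ k ih =>
      intro s hs j hj
      rcases Nat.lt_succ_iff_lt_or_eq.mp hj with hlt | heq
      · exact ih s hs j hlt
      subst heq
      let Y := {i : Fin n // j ≤ i}
      let M : P →* Matrix Y Y F :=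
        { toFun := fun t => ((t : Matrix.SpecialLinearGroup (Fin n) F) : Matrix (Fin n) (Fin n) F).submatrix
            Subtype.val Subtype.val
          map_one' := by
            show (((1 : Matrix.SpecialLinearGroup (Fin n) F)) : Matrix (Fin n) (Fin n) F).submatrix _ _ = _
            rw [Matrix.SpecialLinearGroup.coe_one]
            exact Matrix.submatrix_one _ Subtype.val_injective
          map_mul' := fun t t' => by
            show ((((t : Matrix.SpecialLinearGroup (Fin n) F) * t' : Matrix.SpecialLinearGroup (Fin n) F)) :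
              Matrix (Fin n) (Fin n) F).submatrix _ _ = _
            rw [Matrix.SpecialLinearGroup.coe_mul]
            ext x y
            simp only [Matrix.submatrix_apply, Matrix.mul_apply]
            rw [← Finset.sum_filter_add_sum_filter_not Finset.univ (fun l : Fin n => j ≤ l)]
            rw [Finset.sum_eq_zero (s := Finset.univ.filter fun l : Fin n => ¬ j ≤ l), add_zero]
            · exact (Finset.sum_subtype (Finset.univ.filter fun l : Fin n => j ≤ l) (by simp)
                (fun l => (t : Matrix.SpecialLinearGroup (Fin n) F) x.1 l *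
                  (t' : Matrix.SpecialLinearGroup (Fin n) F) l y.1))
            · intro l hl
              have hlj : l < j := not_le.mp (Finset.mem_filter.mp hl).2
              rw [ih t t.2 l hlj x.1 (le_trans hlj.le x.2),
                if_neg (lt_of_lt_of_le hlj x.2).ne', zero_mul] }
      letI act : MulAction P (Y → F) :=
        { smul := fun t v => M t *ᵥ v
          one_smul := fun v => by show M 1 *ᵥ v = v; rw [map_one, one_mulVec]
          mul_smul := fun t t' v => by
            show M (t * t') *ᵥ v = M t *ᵥ (M t' *ᵥ v)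
            rw [map_mul, mulVec_mulVec] }
      have hdvd : p ∣ Nat.card (Y → F) := by
        rw [Nat.card_eq_fintype_card, Fintype.card_fun]
        haveI : Nonempty Y := ⟨⟨j, le_refl j⟩⟩
        refine dvd_pow ?_ (Fintype.card_ne_zero (α := Y))
        obtain ⟨m, hp, hm⟩ := FiniteField.card F p
        rw [hm]
        exact dvd_pow_self p m.ne_zero
      obtain ⟨v, hv, hv0⟩ := hP.exists_fixed_point_of_prime_dvd_card_of_fixed_point (Y → F) hdvd
        (a := 0) (fun t => mulVec_zero (M t))
      have hvj : ∀ l : Y, l.1 ≠ j → v l = 0 := by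
        intro l hl
        have hlt : j < l.1 := lt_of_le_of_ne l.2 (Ne.symm hl)
        have hu := hle (tau_e_mem_uni hlt (1 : F))
        have h1 := congrFun (hv ⟨_, hu⟩) ⟨j, le_refl j⟩
        change (M ⟨_, hu⟩ *ᵥ v) ⟨j, le_refl j⟩ = _ at h1
        simp only [M, MonoidHom.coe_mk, OneHom.coe_mk, mulVec, dotProduct, submatrix_apply] at h1
        rw [Fintype.sum_eq_add ⟨j, le_refl j⟩ l (fun h => hl (congrArg Subtype.val h).symm) ?_] at h1
        · simpa [tau_coe, tauM, vecMulVec_apply, e, hlt.ne, hlt.ne'] using h1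
        · intro x hx
          have hx1 : x.1 ≠ j := fun h => hx.1 (Subtype.ext h)
          have hx2 : x.1 ≠ l.1 := fun h => hx.2 (Subtype.ext h)
          simp [tau_coe, tauM, vecMulVec_apply, e, hx2, Ne.symm hx1]
      intro i hi
      have h1 := congrFun (hv ⟨s, hs⟩) ⟨i, hi⟩
      change (M ⟨s, hs⟩ *ᵥ v) ⟨i, hi⟩ = _ at h1
      simp only [M, MonoidHom.coe_mk, OneHom.coe_mk, mulVec, dotProduct, submatrix_apply] at h1
      rw [Fintype.sum_eq_single ⟨j, le_refl j⟩ (fun x hx => by
        rw [hvj x (fun h => hx (Subtype.ext h)), mul_zero])] at h1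
      have hne : v ⟨j, le_refl j⟩ ≠ 0 := by
        intro h
        apply hv0
        funext x
        by_cases hx : x.1 = j
        · rw [show x = ⟨j, le_refl j⟩ from Subtype.ext hx, h]; rfl
        · rw [hvj x hx]; rfl
      by_cases hij : i = j
      · subst hij
        rw [if_pos rfl]
        exact mul_right_cancel₀ hne (h1.trans (one_mul _).symm)
      · rw [hvj ⟨i, hi⟩ hij] at h1
        rw [if_neg hij]
        exact (mul_eq_zero.mp h1).resolve_right hne
  intro s hs i j hji
  exact main n s hs j j.isLt i hji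

variable (n F) in
/-- The unitriangular Sylow subgroup. -/
noncomputable def uniSylow : Sylow p (Matrix.SpecialLinearGroup (Fin n) F) :=
  { uni n F with
    isPGroup' := isPGroup_uni p
    is_maximal' := fun {Q} hQ hle => uni_maximal p Q hQ hle }

variable (n F) in
/-- Its image in `PSL`. -/
noncomputable def pslSylow : Sylow p (Matrix.ProjectiveSpecialLinearGroup (Fin n) F) :=
  (uniSylow n F p).mapSurjective (QuotientGroup.mk'_surjective _)

theorem pslSylow_coe :
    (pslSylow n F p : Subgroup (Matrix.ProjectiveSpecialLinearGroup (Fin n) F)) =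
      (uni n F).map (piPSL (Fin n) F) := rfl

theorem piPSL_injOn_uni [NeZero n] {u v : Matrix.SpecialLinearGroup (Fin n) F} (hu : u ∈ uni n F)
    (hv : v ∈ uni n F) (h : piPSL (Fin n) F u = piPSL (Fin n) F v) : u = v := by
  have h0 : (0 : Fin n → F) ⬝ᵥ 0 = 0 := zero_dotProduct _
  have htau : tau 0 0 h0 = (1 : Matrix.SpecialLinearGroup (Fin n) F) :=
    Subtype.ext (by simp [tau, tauM])
  have hw : v⁻¹ * u ∈ uni n F := mul_mem (inv_mem hv) hu
  have hfix : ((v⁻¹ * u : Matrix.SpecialLinearGroup (Fin n) F) : Matrix (Fin n) (Fin n) F) *ᵥ e 0 = e 0 := by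
    funext i
    rw [mulVec_single_one, col_apply, hw i 0 (Fin.zero_le _)]
    simp [e, Pi.single_apply]
  have hne : (e 0 : Fin n → F) ≠ 0 := by
    intro he; have := congrFun he 0; simp [e] at this
  have := eq_tau_of_piPSL_eq hne h0 hfix (by rw [htau, map_one, map_mul, map_inv, h, inv_mul_cancel])
  rw [htau] at this
  exact (inv_mul_eq_one.mp this).symm

/-- The elements of a subgroup commuting with all of it. -/
def subCenter {G : Type*} [Group G] (H : Subgroup G) : Subgroup G :=
  H ⊓ Subgroup.centralizer (H : Set G)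

theorem mem_subCenter {G : Type*} [Group G] {H : Subgroup G} {x : G} :
    x ∈ subCenter H ↔ x ∈ H ∧ ∀ y ∈ H, y * x = x * y := by
  rw [subCenter, Subgroup.mem_inf, Subgroup.mem_centralizer_iff]; rfl

theorem subCenter_map {G G' : Type*} [Group G] [Group G'] (f : G ≃* G') (H : Subgroup G) :
    (subCenter H).map f.toMonoidHom = subCenter (H.map f.toMonoidHom) := by
  ext x
  obtain ⟨y, rfl⟩ := f.surjective x
  simp only [mem_subCenter, Subgroup.mem_map, MulEquiv.coe_toMonoidHom]
  constructor
  · rintro ⟨z, ⟨hz, hc⟩, hzy⟩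
    refine ⟨⟨z, hz, hzy⟩, ?_⟩
    rintro _ ⟨w, hw, rfl⟩
    rw [← hzy, ← map_mul, ← map_mul, hc w hw]
  · rintro ⟨⟨z, hz, hzy⟩, hc⟩
    refine ⟨z, ⟨hz, fun w hw => f.injective ?_⟩, hzy⟩
    rw [map_mul, map_mul, hzy]
    exact hc (f w) ⟨w, hw, rfl⟩

theorem subCenter_pslSylow [NeZero n] (hn : 2 ≤ n) :
    subCenter (pslSylow n F p : Subgroup (Matrix.ProjectiveSpecialLinearGroup (Fin n) F)) =
      root (e 0) (e ⟨n - 1, by omega⟩) := by
  classical
  set L : Fin n := ⟨n - 1, by omega⟩
  have hL : (0 : Fin n) < L := by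
    rw [Fin.lt_def]; simp [L]; omega
  rw [pslSylow_coe]
  ext x
  rw [mem_subCenter, mem_root_iff (dot_e hL.ne)]
  constructor
  · rintro ⟨⟨u, hu, rfl⟩, hc⟩
    refine ⟨(u : Matrix (Fin n) (Fin n) F) 0 L, ?_⟩
    congr 1
    have hcomm : ∀ i j : Fin n, i < j →
        Commute (Matrix.single i j (1 : F)) (u : Matrix (Fin n) (Fin n) F) := by
      intro i j hij
      have hm := tau_e_mem_uni (F := F) hij 1
      have h1 := hc _ ⟨_, hm, rfl⟩
      rw [← map_mul, ← map_mul] at h1
      have h2 := piPSL_injOn_uni (mul_mem hm hu) (mul_mem hu hm) h1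
      have h3 := congrArg Subtype.val h2
      simp only [Matrix.SpecialLinearGroup.coe_mul, tau_coe, tauM, vecMulVec_e, add_mul, mul_add,
        one_mul, mul_one, add_right_inj] at h3
      exact h3
    rw [tau_eq_transvection hL.ne]
    apply Subtype.ext
    rw [Matrix.SpecialLinearGroup.transvection_coe]
    ext k l
    rw [Matrix.add_apply, Matrix.one_apply, Matrix.single_apply]
    by_cases hlk : l ≤ k
    · rw [hu k l hlk, if_neg (c := _ ∧ _), add_zero]
      rintro ⟨rfl, rfl⟩
      exact absurd hlk (not_le.mpr hL)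
    · have hkl : k < l := not_le.mp hlk
      rw [if_neg hkl.ne, zero_add]
      by_cases hk : k = 0
      · by_cases hl : l = L
        · rw [hk, hl, if_pos ⟨rfl, rfl⟩]
        · have hlL : l < L := by
            rw [Fin.lt_def]
            have : (l : ℕ) ≠ n - 1 := fun h => hl (Fin.ext h)
            simp [L]; omega
          rw [if_neg (fun h => hl h.2.symm)]
          exact Matrix.col_eq_zero_of_commute_single (hcomm l L hlL) hkl.ne
      · rw [if_neg (fun h => hk h.1.symm)]
        exact Matrix.row_eq_zero_of_commute_single (hcomm 0 k (Fin.pos_iff_ne_zero.mpr hk)) hkl.ne'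
  · rintro ⟨t, rfl⟩
    have hm := tau_e_mem_uni (F := F) hL t
    refine ⟨⟨_, hm, rfl⟩, ?_⟩
    rintro _ ⟨u, hu, rfl⟩
    rw [← map_mul, ← map_mul]
    congr 1
    apply Subtype.ext
    rw [Matrix.SpecialLinearGroup.coe_mul, Matrix.SpecialLinearGroup.coe_mul, tau_coe, tauM,
      mul_add, add_mul, mul_one, one_mul, vecMulVec_e]
    congr 1
    ext k l
    by_cases hk : k = 0
    · subst hk
      by_cases hl : l = L
      · subst hl
        rw [Matrix.mul_single_apply_same, Matrix.single_mul_apply_same, hu 0 0 le_rfl,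
          hu L L le_rfl, if_pos rfl, if_pos rfl, one_mul, mul_one]
      · have hlL : l ≤ L := by rw [Fin.le_def]; simp [L]; omega
        rw [Matrix.mul_single_apply_of_ne (hbj := hl), Matrix.single_mul_apply_same, hu L l hlL,
          if_neg (Ne.symm hl), mul_zero]
    · rw [Matrix.single_mul_apply_of_ne (h := hk)]
      by_cases hl : l = L
      · subst hl
        rw [Matrix.mul_single_apply_same, hu k 0 (Fin.zero_le _), if_neg hk, zero_mul]
      · rw [Matrix.mul_single_apply_of_ne (hbj := hl)]

end Cfsg.Agent.AutPSL
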