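import Mathlib
import Cfsg.Agent.AutPSL.Induced
import Cfsg.Agent.AutPSL.Transvection
import Cfsg.Agent.AutPSL.Sylow

/-!
Semilinear and inverse-transpose automorphisms of `PSL_n(q)` and their action on root subgroups
(helper60).
-/

set_option autoImplicit false

namespace Cfsg.Agent.AutPSL

open Matrix

universe u

variable {n : ℕ} {F : Type u} [Field F]

variable (n F) in
/-- The inclusion `SL → GL`. -/
abbrev rho : Matrix.SpecialLinearGroup (Fin n) F →* GL (Fin n) F :=
  Matrix.SpecialLinearGroup.toGL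

theorem rho_coe (s : Matrix.SpecialLinearGroup (Fin n) F) :
    ((rho n F s : GL (Fin n) F) : Matrix (Fin n) (Fin n) F) = (s : Matrix (Fin n) (Fin n) F) := rfl

theorem rho_injective : Function.Injective (rho n F) := by
  intro a b h
  exact Subtype.ext (congrArg (Units.val (α := Matrix (Fin n) (Fin n) F)) h)

theorem normalises_psl (g : GL (Fin n) F) (σ : F ≃+* F) : Normalises (rho n F) g σ := by
  intro s
  refine ⟨⟨(act g σ (rho n F s) : GL (Fin n) F), ?_⟩, Units.ext rfl⟩
  rw [act_coe, Matrix.det_units_conj]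
  show (σ.mapMatrix (s : Matrix (Fin n) (Fin n) F)).det = 1
  rw [← RingEquiv.map_det, s.2, map_one]

/-- The pair `(g, σ)` induces `β` on `PSL_n(F)`. -/
abbrev IsSemi (g : GL (Fin n) F) (σ : F ≃+* F)
    (β : MulAut (Matrix.ProjectiveSpecialLinearGroup (Fin n) F)) : Prop :=
  Induced (rho n F) g σ β

theorem isSemi_iff (g : GL (Fin n) F) (σ : F ≃+* F)
    (β : MulAut (Matrix.ProjectiveSpecialLinearGroup (Fin n) F)) :
    IsSemi g σ β ↔ Cfsg.IsInducedBySemilinearPSL g σ β :=
  ⟨fun h s s' hs => h s s' (Units.ext hs), fun h s s' hs => h s s' (congrArg Units.val hs)⟩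

theorem isInnerDiagonal_iff (β : MulAut (Matrix.ProjectiveSpecialLinearGroup (Fin n) F)) :
    Cfsg.IsInnerDiagonalAutPSL β ↔ ∃ g : GL (Fin n) F, IsSemi g 1 β := by
  constructor
  · rintro ⟨g, h⟩
    refine ⟨g, fun s s' hs => h s s' ?_⟩
    have h2 := congrArg Units.val hs
    exact h2
  · rintro ⟨g, h⟩
    exact ⟨g, fun s s' hs => h s s' (Units.ext hs)⟩

theorem isStdField_iff (σ : F ≃+* F) (β : MulAut (Matrix.ProjectiveSpecialLinearGroup (Fin n) F)) :
    Cfsg.IsStdFieldAutPSL σ β ↔ IsSemi 1 σ β := by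
  constructor
  · intro h s s' hs
    apply h s s'
    have h2 := congrArg Units.val hs
    rw [act_coe] at h2
    simpa [rho_coe] using h2
  · intro h s s' hs
    apply h s s'
    apply Units.ext
    rw [act_coe]
    simpa [rho_coe] using hs

theorem eq_act_rho {g : GL (Fin n) F} {σ : F ≃+* F} {s : Matrix.SpecialLinearGroup (Fin n) F}
    {a b : Fin n → F} (h : b ⬝ᵥ a = 0) (hs : (s : Matrix (Fin n) (Fin n) F) = tauM a b)
    (h' : ((⇑σ ∘ b) ᵥ* ((g⁻¹ : GL (Fin n) F) : Matrix (Fin n) (Fin n) F)) ⬝ᵥ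
      ((g : Matrix (Fin n) (Fin n) F) *ᵥ (⇑σ ∘ a)) = 0) :
    rho n F (tau ((g : Matrix (Fin n) (Fin n) F) *ᵥ (⇑σ ∘ a))
      ((⇑σ ∘ b) ᵥ* ((g⁻¹ : GL (Fin n) F) : Matrix (Fin n) (Fin n) F)) h') = act g σ (rho n F s) := by
  apply Units.ext
  rw [act_coe, rho_coe, rho_coe, tau_coe, hs]
  rw [show (tauM a b).map σ = tauM (⇑σ ∘ a) (⇑σ ∘ b) from tauM_map (σ : F →+* F) a b, tauM_conj]

theorem root_map_semi {g : GL (Fin n) F} {σ : F ≃+* F}
    {β : MulAut (Matrix.ProjectiveSpecialLinearGroup (Fin n) F)} (hβ : IsSemi g σ β)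
    {a b : Fin n → F} (h : b ⬝ᵥ a = 0) :
    (root a b).map β.toMonoidHom =
      root ((g : Matrix (Fin n) (Fin n) F) *ᵥ (⇑σ ∘ a))
        ((⇑σ ∘ b) ᵥ* ((g⁻¹ : GL (Fin n) F) : Matrix (Fin n) (Fin n) F)) := by
  have h' : ((⇑σ ∘ b) ᵥ* ((g⁻¹ : GL (Fin n) F) : Matrix (Fin n) (Fin n) F)) ⬝ᵥ
      ((g : Matrix (Fin n) (Fin n) F) *ᵥ (⇑σ ∘ a)) = 0 := dot_conj (dot_map h (σ : F →+* F)) g
  have hsmul : ∀ t : F, ⇑σ ∘ (t • a) = σ t • (⇑σ ∘ a) := by intro t; funext i; simp
  have key : ∀ t : F, β (piPSL (Fin n) F (tau (t • a) b (smul_dot h t))) =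
      piPSL (Fin n) F (tau (σ t • ((g : Matrix (Fin n) (Fin n) F) *ᵥ (⇑σ ∘ a)))
        ((⇑σ ∘ b) ᵥ* ((g⁻¹ : GL (Fin n) F) : Matrix (Fin n) (Fin n) F)) (smul_dot h' _)) := by
    intro t
    have h2 : ((⇑σ ∘ b) ᵥ* ((g⁻¹ : GL (Fin n) F) : Matrix (Fin n) (Fin n) F)) ⬝ᵥ
        ((g : Matrix (Fin n) (Fin n) F) *ᵥ (⇑σ ∘ (t • a))) = 0 :=
      dot_conj (dot_map (smul_dot h t) (σ : F →+* F)) g
    show β (QuotientGroup.mk _) = QuotientGroup.mk _
    rw [hβ _ _ (eq_act_rho (g := g) (σ := σ) (smul_dot h t) (tau_coe _ _ _) h2)]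
    congr 1
    apply tau_congr
    rw [hsmul, mulVec_smul]
  ext x
  rw [Subgroup.mem_map, mem_root_iff h']
  constructor
  · rintro ⟨y, hy, rfl⟩
    obtain ⟨t, rfl⟩ := (mem_root_iff h).mp hy
    exact ⟨σ t, key t⟩
  · rintro ⟨t, rfl⟩
    refine ⟨_, (mem_root_iff h).mpr ⟨σ.symm t, rfl⟩, ?_⟩
    rw [MulEquiv.coe_toMonoidHom, key]
    congr 1
    apply tau_congr
    rw [RingEquiv.apply_symm_apply]

theorem root_map_conjGL {g : GL (Fin n) F}
    {β : MulAut (Matrix.ProjectiveSpecialLinearGroup (Fin n) F)} (hβ : IsSemi g 1 β)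
    {a b : Fin n → F} (h : b ⬝ᵥ a = 0) :
    (root a b).map β.toMonoidHom = root ((g : Matrix (Fin n) (Fin n) F) *ᵥ a)
        (b ᵥ* ((g⁻¹ : GL (Fin n) F) : Matrix (Fin n) (Fin n) F)) :=
  root_map_semi hβ h

/-- The inverse-transpose automorphism of `SL`. -/
def itSL : Matrix.SpecialLinearGroup (Fin n) F ≃* Matrix.SpecialLinearGroup (Fin n) F where
  toFun s := Matrix.SpecialLinearGroup.transpose s⁻¹
  invFun s := (Matrix.SpecialLinearGroup.transpose s)⁻¹
  left_inv s := by
    have : ∀ A : Matrix.SpecialLinearGroup (Fin n) F,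
        Matrix.SpecialLinearGroup.transpose (Matrix.SpecialLinearGroup.transpose A) = A :=
      fun A => Subtype.ext (Matrix.transpose_transpose _)
    simp only [this, inv_inv]
  right_inv s := by
    have : ∀ A : Matrix.SpecialLinearGroup (Fin n) F,
        Matrix.SpecialLinearGroup.transpose (Matrix.SpecialLinearGroup.transpose A) = A :=
      fun A => Subtype.ext (Matrix.transpose_transpose _)
    simp only [inv_inv, this]
  map_mul' s t := by
    apply Subtype.ext
    rw [_root_.mul_inv_rev, Matrix.SpecialLinearGroup.coe_mul]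
    show ((t⁻¹ * s⁻¹ : Matrix.SpecialLinearGroup (Fin n) F) : Matrix (Fin n) (Fin n) F)ᵀ =
      ((s⁻¹ : Matrix.SpecialLinearGroup (Fin n) F) : Matrix (Fin n) (Fin n) F)ᵀ *
      ((t⁻¹ : Matrix.SpecialLinearGroup (Fin n) F) : Matrix (Fin n) (Fin n) F)ᵀ
    rw [Matrix.SpecialLinearGroup.coe_mul, Matrix.transpose_mul]

theorem itSL_coe (s : Matrix.SpecialLinearGroup (Fin n) F) :
    (itSL s : Matrix (Fin n) (Fin n) F) =
      ((s⁻¹ : Matrix.SpecialLinearGroup (Fin n) F) : Matrix (Fin n) (Fin n) F)ᵀ := rfl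

theorem center_map_equiv {G : Type*} [Group G] (e : G ≃* G) :
    (Subgroup.center G).map (e : G →* G) = Subgroup.center G := by
  apply le_antisymm
  · rintro _ ⟨z, hz, rfl⟩
    rw [Subgroup.mem_center_iff]
    intro x
    obtain ⟨y, rfl⟩ := e.surjective x
    show e y * e z = e z * e y
    rw [← map_mul, ← map_mul, Subgroup.mem_center_iff.mp hz y]
  · intro z hz
    refine ⟨e.symm z, Subgroup.mem_center_iff.mpr fun x => e.injective ?_, e.apply_symm_apply z⟩
    rw [map_mul, map_mul, e.apply_symm_apply, Subgroup.mem_center_iff.mp hz (e x)]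

variable (n F) in
/-- The inverse-transpose automorphism of `PSL`. -/
noncomputable def itAut : MulAut (Matrix.ProjectiveSpecialLinearGroup (Fin n) F) :=
  QuotientGroup.congr _ _ itSL (center_map_equiv itSL)

theorem itAut_mk (s : Matrix.SpecialLinearGroup (Fin n) F) :
    itAut n F (QuotientGroup.mk s) = QuotientGroup.mk (itSL s) := rfl

theorem isInverseTranspose_iff (γ : MulAut (Matrix.ProjectiveSpecialLinearGroup (Fin n) F)) :
    Cfsg.IsInverseTransposeAutPSL γ ↔ γ = itAut n F := by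
  constructor
  · intro h
    apply MulEquiv.ext
    intro x
    obtain ⟨s, rfl⟩ := QuotientGroup.mk_surjective x
    rw [h s (itSL s) rfl, itAut_mk]
  · rintro rfl s s' hs
    rw [itAut_mk, show s' = itSL s from Subtype.ext hs]

theorem itSL_involutive (s : Matrix.SpecialLinearGroup (Fin n) F) : itSL (itSL s) = s := by
  have h2 : itSL (itSL s) = Matrix.SpecialLinearGroup.transpose (itSL s⁻¹) := by
    rw [map_inv]; rfl
  rw [h2]
  apply Subtype.ext
  show ((itSL s⁻¹ : Matrix.SpecialLinearGroup (Fin n) F) : Matrix (Fin n) (Fin n) F)ᵀ = _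
  rw [itSL_coe, inv_inv, Matrix.transpose_transpose]

theorem itAut_mul_self : itAut n F * itAut n F = 1 := by
  apply MulEquiv.ext
  intro x
  obtain ⟨s, rfl⟩ := QuotientGroup.mk_surjective x
  rw [MulAut.mul_apply, itAut_mk, itAut_mk, itSL_involutive]
  rfl

theorem root_map_it {a b : Fin n → F} (h : b ⬝ᵥ a = 0) :
    (root a b).map (itAut n F).toMonoidHom = root b a := by
  have h' : a ⬝ᵥ b = 0 := by rw [dotProduct_comm, h]
  have key : ∀ t : F, itSL (tau (t • a) b (smul_dot h t)) = tau ((-t) • b) a (smul_dot h' _) := by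
    intro t
    have h1 : tau (t • a) b (smul_dot h t) * tau ((-t) • a) b (smul_dot h (-t)) = 1 := by
      have := (map_mul (tauHom a b h) (Multiplicative.ofAdd t) (Multiplicative.ofAdd (-t))).symm
      rw [← ofAdd_add, add_neg_cancel, ofAdd_zero, map_one] at this
      exact this
    apply Subtype.ext
    rw [itSL_coe, inv_eq_of_mul_eq_one_right h1, tau_coe, tau_coe, tauM, tauM,
      Matrix.transpose_add, Matrix.transpose_one, Matrix.transpose_vecMulVec, smul_vecMulVec,
      vecMulVec_smul]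
  ext x
  rw [Subgroup.mem_map, mem_root_iff h']
  constructor
  · rintro ⟨y, hy, rfl⟩
    obtain ⟨t, rfl⟩ := (mem_root_iff h).mp hy
    exact ⟨-t, by rw [MulEquiv.coe_toMonoidHom]; exact congrArg QuotientGroup.mk (key t)⟩
  · rintro ⟨t, rfl⟩
    refine ⟨_, (mem_root_iff h).mpr ⟨-t, rfl⟩, ?_⟩
    show itAut n F (QuotientGroup.mk _) = QuotientGroup.mk _
    rw [itAut_mk, key]
    congr 1
    exact tau_congr _ _ (by rw [neg_neg])

/-- A root subgroup. -/
def IsRoot (R : Subgroup (Matrix.ProjectiveSpecialLinearGroup (Fin n) F)) : Prop :=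
  ∃ a b : Fin n → F, RootPair a b ∧ R = root a b

theorem exists_gl_std [NeZero n] (hn : 2 ≤ n) {a b : Fin n → F} (h : RootPair a b) :
    ∃ g : GL (Fin n) F, Par a ((g : Matrix (Fin n) (Fin n) F) *ᵥ e 0) ∧
      Par b (e (⟨n - 1, by omega⟩ : Fin n) ᵥ* ((g⁻¹ : GL (Fin n) F) : Matrix (Fin n) (Fin n) F)) := by
  classical
  set L : Fin n := ⟨n - 1, by omega⟩
  have hL : (0 : Fin n) ≠ L := by
    intro h; have := congrArg Fin.val h; simp [L] at this; omega
  obtain ⟨i, hi⟩ := Function.ne_iff.mp h.fst_ne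
  simp only [Pi.zero_apply] at hi
  let M1 : Matrix (Fin n) (Fin n) F :=
    ((1 : Matrix (Fin n) (Fin n) F).updateCol i a).submatrix id (Equiv.swap 0 i)
  have hM1 : IsUnit M1.det := by
    rw [Matrix.det_permute']
    have : ((1 : Matrix (Fin n) (Fin n) F).updateCol i a).det = a i := by
      rw [← Matrix.cramer_apply, Matrix.cramer_one]; rfl
    rw [this]
    exact (((Equiv.Perm.sign (Equiv.swap 0 i)).isUnit).map (Int.castRingHom F)).mul (isUnit_iff_ne_zero.mpr hi)
  let g1 : GL (Fin n) F := Matrix.GeneralLinearGroup.mk'' M1 hM1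
  have hg1 : (g1 : Matrix (Fin n) (Fin n) F) = M1 := rfl
  have hg1e : (g1 : Matrix (Fin n) (Fin n) F) *ᵥ e 0 = a := by
    funext r
    rw [hg1, mulVec_single_one, col_apply]
    simp [M1]
  let b' := b ᵥ* (g1 : Matrix (Fin n) (Fin n) F)
  have hb'0 : b' 0 = 0 := by
    have h1 : b' ⬝ᵥ e 0 = 0 := by
      rw [← dotProduct_mulVec, hg1e, h.dot]
    simpa [e] using h1
  have hb' : b' ≠ 0 := by
    intro hz
    apply h.snd_ne
    have := congrArg (fun v => v ᵥ* ((g1⁻¹ : GL (Fin n) F) : Matrix (Fin n) (Fin n) F)) hz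
    simp only [b', vecMul_vecMul, ← Units.val_mul, mul_inv_cancel, Units.val_one, vecMul_one,
      zero_vecMul] at this
    exact this
  obtain ⟨j, hj⟩ := Function.ne_iff.mp hb'
  simp only [Pi.zero_apply] at hj
  have hj0 : j ≠ 0 := fun h => hj (h ▸ hb'0)
  let M2 : Matrix (Fin n) (Fin n) F :=
    ((1 : Matrix (Fin n) (Fin n) F).updateRow j b').submatrix (Equiv.swap j L) id
  have hM2 : IsUnit M2.det := by
    rw [Matrix.det_permute]
    have : ((1 : Matrix (Fin n) (Fin n) F).updateRow j b').det = b' j := by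
      rw [← Matrix.det_transpose, ← Matrix.updateCol_transpose, Matrix.transpose_one,
        ← Matrix.cramer_apply, Matrix.cramer_one]; rfl
    rw [this]
    exact (((Equiv.Perm.sign (Equiv.swap j L)).isUnit).map (Int.castRingHom F)).mul (isUnit_iff_ne_zero.mpr hj)
  let g2 : GL (Fin n) F := Matrix.GeneralLinearGroup.mk'' M2 hM2
  have hg2 : (g2 : Matrix (Fin n) (Fin n) F) = M2 := rfl
  have hg2e : (g2 : Matrix (Fin n) (Fin n) F) *ᵥ e 0 = e 0 := by
    funext r
    rw [hg2, mulVec_single_one, col_apply]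
    simp only [M2, submatrix_apply, id]
    rw [Matrix.updateRow_apply]
    by_cases hr : Equiv.swap j L r = j
    · have : r = L := by
        apply (Equiv.swap j L).injective; rw [hr, Equiv.swap_apply_right]
      subst this
      rw [if_pos hr, hb'0, show (e 0 : Fin n → F) L = 0 by simp [e, hL.symm]]
    · rw [if_neg hr]
      by_cases hr0 : r = 0
      · subst hr0
        rw [Equiv.swap_apply_of_ne_of_ne (Ne.symm hj0) hL]
        simp [e]
      · have : Equiv.swap j L r ≠ 0 := by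
          intro h
          apply hr0
          have h2 : Equiv.swap j L 0 = 0 := Equiv.swap_apply_of_ne_of_ne (Ne.symm hj0) hL
          exact (Equiv.swap j L).injective (h.trans h2.symm)
        rw [Matrix.one_apply_ne this]
        simp [e, hr0]
  have hg2b : e L ᵥ* (g2 : Matrix (Fin n) (Fin n) F) = b' := by
    funext r
    rw [hg2, single_one_vecMul, row_apply]
    simp [M2]
  refine ⟨g1 * g2⁻¹, ?_, ?_⟩
  · have : ((g2⁻¹ : GL (Fin n) F) : Matrix (Fin n) (Fin n) F) *ᵥ e 0 = e 0 := by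
      conv_lhs => rw [← hg2e]
      rw [mulVec_mulVec, ← Units.val_mul, inv_mul_cancel, Units.val_one, one_mulVec]
    rw [Units.val_mul, ← mulVec_mulVec, this, hg1e]
    exact Par.refl a
  · rw [_root_.mul_inv_rev, inv_inv, Units.val_mul, ← vecMul_vecMul, hg2b]
    simp only [b', vecMul_vecMul, ← Units.val_mul, mul_inv_cancel, Units.val_one, vecMul_one]
    exact Par.refl b

theorem rootPair_std [NeZero n] (hn : 2 ≤ n) :
    RootPair (F := F) (e (0 : Fin n)) (e ⟨n - 1, by omega⟩) := by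
  have hL : (0 : Fin n) ≠ ⟨n - 1, by omega⟩ := by
    intro h; have := congrArg Fin.val h; simp at this; omega
  refine ⟨?_, ?_, dot_e hL⟩ <;>
    · intro h
      simp [e] at h

theorem RootPair.semi {a b : Fin n → F} (h : RootPair a b) (g : GL (Fin n) F) (σ : F ≃+* F) :
    RootPair ((g : Matrix (Fin n) (Fin n) F) *ᵥ (⇑σ ∘ a))
      ((⇑σ ∘ b) ᵥ* ((g⁻¹ : GL (Fin n) F) : Matrix (Fin n) (Fin n) F)) := by
  have hne : ∀ v : Fin n → F, v ≠ 0 → ⇑σ ∘ v ≠ 0 := by
    intro v hv hz
    apply hv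
    funext i
    have := congrFun hz i
    simpa using this
  refine ⟨fun hz => hne a h.fst_ne ?_, fun hz => hne b h.snd_ne ?_,
    dot_conj (dot_map h.dot (σ : F →+* F)) g⟩
  · exact (Matrix.mulVec_injective_iff_isUnit.mpr g.isUnit) (hz.trans (mulVec_zero _).symm)
  · exact (Matrix.vecMul_injective_iff_isUnit.mpr (g⁻¹).isUnit) (hz.trans (zero_vecMul _).symm)

variable [Fintype F]

/-- Automorphisms permute root subgroups. -/
theorem IsRoot.map [NeZero n] (hn : 2 ≤ n) {R : Subgroup (Matrix.ProjectiveSpecialLinearGroup (Fin n) F)}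
    (hR : IsRoot R) (α : MulAut (Matrix.ProjectiveSpecialLinearGroup (Fin n) F)) :
    IsRoot (R.map α.toMonoidHom) := by
  classical
  obtain ⟨p, hp⟩ := CharP.exists F
  haveI : Fact p.Prime := ⟨CharP.char_is_prime F p⟩
  obtain ⟨a, b, hab, rfl⟩ := hR
  obtain ⟨g, hga, hgb⟩ := exists_gl_std hn hab
  obtain ⟨β, hβ⟩ := exists_induced (S := Matrix.SpecialLinearGroup (Fin n) F) rho_injective
    (normalises_psl g 1)
  have hstd := rootPair_std (F := F) hn
  have h1 : root a b = (root (e (0 : Fin n)) (e (F := F) ⟨n - 1, by omega⟩)).map β.toMonoidHom := by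
    rw [root_map_conjGL hβ hstd.dot]
    exact (root_eq_iff hab (hstd.semi g 1)).mpr ⟨hga, hgb⟩
  let γ : MulAut (Matrix.ProjectiveSpecialLinearGroup (Fin n) F) := α * β
  have h2 : (root a b).map α.toMonoidHom =
      (subCenter (pslSylow n F p : Subgroup (Matrix.ProjectiveSpecialLinearGroup (Fin n) F))).map γ.toMonoidHom := by
    rw [h1, subCenter_pslSylow p hn, Subgroup.map_map]
    rfl
  let P' : Sylow p (Matrix.ProjectiveSpecialLinearGroup (Fin n) F) :=
    (pslSylow n F p).mapSurjective (f := γ.toMonoidHom) γ.surjective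
  obtain ⟨x, hx⟩ := MulAction.exists_smul_eq (Matrix.ProjectiveSpecialLinearGroup (Fin n) F)
    (pslSylow n F p) P'
  have hx' : (P' : Subgroup (Matrix.ProjectiveSpecialLinearGroup (Fin n) F)) =
      (pslSylow n F p : Subgroup (Matrix.ProjectiveSpecialLinearGroup (Fin n) F)).map
        (MulAut.conj x).toMonoidHom := by
    rw [← hx]; rfl
  have h3 : (root a b).map α.toMonoidHom =
      (root (e (0 : Fin n)) (e (F := F) ⟨n - 1, by omega⟩)).map (MulAut.conj x).toMonoidHom := by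
    rw [h2, subCenter_map, show (pslSylow n F p : Subgroup _).map γ.toMonoidHom = (P' : Subgroup _) from rfl,
      hx', ← subCenter_map, subCenter_pslSylow p hn]
  obtain ⟨s, rfl⟩ := QuotientGroup.mk_surjective x
  have hs : IsSemi (rho n F s) 1 (MulAut.conj (QuotientGroup.mk s :
      Matrix.ProjectiveSpecialLinearGroup (Fin n) F)) := by
    intro t t' ht
    have : t' = s * t * s⁻¹ := by
      apply rho_injective
      rw [ht, act_apply, fieldMap_one, map_mul, map_mul, map_inv]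
    rw [this]
    rfl
  rw [h3, root_map_conjGL hs hstd.dot]
  exact ⟨_, _, hstd.semi (rho n F s) 1, rfl⟩

end Cfsg.Agent.AutPSL
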