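import Mathlib
import Cfsg.Prelude.Def_LieTypeDatum

/-!
Counting the classes into which a class splits (helper60).
-/

set_option autoImplicit false

namespace Cfsg.Agent.AutPSL

universe u v w

variable {G : Type u} [Group G] {X : Type v} [Group X] {A : Type w} [CommGroup A]

theorem mem_centralizer_single {X : Type v} [Group X] {x y : X} :
    y ∈ Subgroup.centralizer ({x} : Set X) ↔ x * y = y * x := by
  rw [Subgroup.mem_centralizer_iff]
  simp

/-- If `H = P(G)` and `K = P(ker d)` with `d : G →* A` onto an abelian group, then the `H`-class of `x`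
splits into `[A : d(C(x))]` classes under `K`. -/
theorem splitClassCount_eq (P : G →* X) (d : G →* A) (hd : Function.Surjective d)
    (hker : P.ker ≤ d.ker) (x : X) :
    Cfsg.splitClassCount P.range (d.ker.map P) x =
      (((Subgroup.centralizer ({x} : Set X)).comap P).map d).index := by
  classical
  set S := ((Subgroup.centralizer ({x} : Set X)).comap P).map d
  have hex : ∀ y : {y : X // Cfsg.IsConjUnder P.range x y}, ∃ g : G, y.1 = P g * x * (P g)⁻¹ := by
    rintro ⟨y, h, ⟨g, rfl⟩, hy⟩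
    exact ⟨g, hy⟩
  choose c hc using hex
  have hwd : ∀ g g' : G, P g * x * (P g)⁻¹ = P g' * x * (P g')⁻¹ → (d g)⁻¹ * d g' ∈ S := by
    intro g g' h
    refine ⟨g⁻¹ * g', ?_, by rw [map_mul, map_inv]⟩
    show P (g⁻¹ * g') ∈ Subgroup.centralizer ({x} : Set X)
    rw [mem_centralizer_single, map_mul, map_inv]
    calc x * ((P g)⁻¹ * P g') = (P g)⁻¹ * (P g * x * (P g)⁻¹) * P g' := by group
      _ = (P g)⁻¹ * (P g' * x * (P g')⁻¹) * P g' := by rw [h]
      _ = _ := by group
  let φ : {y : X // Cfsg.IsConjUnder P.range x y} → A ⧸ S := fun y => QuotientGroup.mk (d (c y))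
  have hrel : ∀ y z, Cfsg.IsConjUnder (d.ker.map P) y.1 z.1 → φ y = φ z := by
    rintro y z ⟨k, ⟨k0, hk0, rfl⟩, hk⟩
    show QuotientGroup.mk (d (c y)) = QuotientGroup.mk (d (c z))
    rw [QuotientGroup.eq]
    have := hwd (k0 * c y) (c z) (by
      rw [← hc z, hk, hc y, map_mul]; group)
    rw [map_mul, MonoidHom.mem_ker.mp hk0, one_mul] at this
    exact this
  let Φ : Quot (fun y z : {y : X // Cfsg.IsConjUnder P.range x y} =>
      Cfsg.IsConjUnder (d.ker.map P) y.1 z.1) → A ⧸ S := Quot.lift φ hrel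
  have hbij : Function.Bijective Φ := by
    constructor
    · intro a b
      induction a using Quot.ind with | mk y => ?_
      induction b using Quot.ind with | mk z => ?_
      intro h
      change QuotientGroup.mk (d (c y)) = QuotientGroup.mk (d (c z)) at h
      rw [QuotientGroup.eq] at h
      obtain ⟨u, hu, hdu⟩ := h
      apply Quot.sound
      refine ⟨P (c z * u⁻¹ * (c y)⁻¹), ⟨_, ?_, rfl⟩, ?_⟩
      · show c z * u⁻¹ * (c y)⁻¹ ∈ d.ker
        rw [MonoidHom.mem_ker, map_mul, map_mul, map_inv, map_inv, hdu]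
        group
      · have hu' : x * P u = P u * x := mem_centralizer_single.mp hu
        have : (P u)⁻¹ * x * P u = x := by rw [mul_assoc, hu', ← mul_assoc, inv_mul_cancel, one_mul]
        rw [hc y, hc z, map_mul, map_mul, map_inv, map_inv]
        calc P (c z) * x * (P (c z))⁻¹ = P (c z) * ((P u)⁻¹ * x * P u) * (P (c z))⁻¹ := by rw [this]
          _ = _ := by group
    · intro a
      obtain ⟨a, rfl⟩ := QuotientGroup.mk_surjective a
      obtain ⟨g, rfl⟩ := hd a
      refine ⟨Quot.mk _ ⟨P g * x * (P g)⁻¹, P g, ⟨g, rfl⟩, rfl⟩, ?_⟩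
      show QuotientGroup.mk (d (c _)) = QuotientGroup.mk (d g)
      rw [QuotientGroup.eq]
      exact hwd _ _ (hc _).symm
  show Nat.card _ = _
  rw [Nat.card_congr (Equiv.ofBijective Φ hbij)]
  exact (Subgroup.index_eq_card S).symm

theorem splitClassCount_conj (H K : Subgroup X) (hH : ∀ α : X, ∀ d ∈ H, α * d * α⁻¹ ∈ H)
    (hK : ∀ α : X, ∀ d ∈ K, α * d * α⁻¹ ∈ K) (α x : X) :
    Cfsg.splitClassCount H K (α * x * α⁻¹) = Cfsg.splitClassCount H K x := by
  have key : ∀ (L : Subgroup X), (∀ β : X, ∀ d ∈ L, β * d * β⁻¹ ∈ L) → ∀ a b : X,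
      Cfsg.IsConjUnder L a b ↔ Cfsg.IsConjUnder L (α * a * α⁻¹) (α * b * α⁻¹) := by
    intro L hL a b
    constructor
    · rintro ⟨h, hh, rfl⟩
      exact ⟨_, hL α h hh, by group⟩
    · rintro ⟨h, hh, he⟩
      refine ⟨α⁻¹ * h * α, by simpa using hL α⁻¹ h hh, ?_⟩
      calc b = α⁻¹ * (α * b * α⁻¹) * α := by group
        _ = α⁻¹ * (h * (α * a * α⁻¹) * h⁻¹) * α := by rw [he]
        _ = _ := by group
  let e : {y : X // Cfsg.IsConjUnder H x y} ≃ {y : X // Cfsg.IsConjUnder H (α * x * α⁻¹) y} :=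
    Equiv.subtypeEquiv (MulAut.conj α).toEquiv (fun y => key H hH x y)
  exact (Nat.card_congr (Quot.congr e (fun y z => key K hK y.1 z.1))).symm

theorem centralizer_conj_equiv {X : Type v} [Group X] (H : Subgroup X)
    (hH : ∀ α : X, ∀ d ∈ H, α * d * α⁻¹ ∈ H) (α x : X) :
    Nonempty (↥(H ⊓ Subgroup.centralizer ({x} : Set X)) ≃*
      ↥(H ⊓ Subgroup.centralizer ({α * x * α⁻¹} : Set X))) := by
  have h : (H ⊓ Subgroup.centralizer ({x} : Set X)).map (MulAut.conj α).toMonoidHom =
      H ⊓ Subgroup.centralizer ({α * x * α⁻¹} : Set X) := by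
    ext y
    simp only [Subgroup.mem_map, Subgroup.mem_inf, mem_centralizer_single, MulEquiv.coe_toMonoidHom,
      MulAut.conj_apply]
    constructor
    · rintro ⟨z, ⟨hz, hc⟩, rfl⟩
      refine ⟨hH α z hz, ?_⟩
      calc α * x * α⁻¹ * (α * z * α⁻¹) = α * (x * z) * α⁻¹ := by group
        _ = α * (z * x) * α⁻¹ := by rw [hc]
        _ = _ := by group
    · rintro ⟨hy, hc⟩
      refine ⟨α⁻¹ * y * α, ⟨by simpa using hH α⁻¹ y hy, ?_⟩, by group⟩
      calc x * (α⁻¹ * y * α) = α⁻¹ * (α * x * α⁻¹ * y) * α := by group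
        _ = α⁻¹ * (y * (α * x * α⁻¹)) * α := by rw [hc]
        _ = _ := by group
  exact ⟨((MulAut.conj α).subgroupMap _).trans (MulEquiv.subgroupCongr h)⟩

end Cfsg.Agent.AutPSL
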