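import Mathlib
import Cfsg.Agent.AutPSL.Basic

/-!
The geometry of root subgroups of `PSL_n(q)`: an automorphism is, up to the inverse transpose and a
projectivity, one fixing the coordinate root subgroups (helper60).
-/

set_option autoImplicit false

namespace Cfsg.Agent.AutPSL

open Matrix

universe u

variable {n : ℕ} {F : Type u} [Field F]

theorem par_or_indep {a a' : Fin n → F} (ha : a ≠ 0) (ha' : a' ≠ 0) (h : ¬ Par a a') {x y : F}
    (he : x • a + y • a' = 0) : x = 0 ∧ y = 0 := by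
  by_cases hy : y = 0
  · rw [hy, zero_smul, add_zero, smul_eq_zero] at he
    exact ⟨he.resolve_right ha, hy⟩
  · exfalso
    have h2 : a' = (-(x / y)) • a := by
      have : y • a' = -(x • a) := eq_neg_of_add_eq_zero_right he
      rw [neg_smul, div_eq_inv_mul, ← smul_smul, ← smul_neg, ← this, smul_smul, inv_mul_cancel₀ hy,
        one_smul]
    refine h ⟨_, ?_, h2⟩
    intro hz
    rw [hz, zero_smul] at h2
    exact ha' h2

theorem RootPair.of_smul {a b : Fin n → F} (h : RootPair a b) {t : F} (ht : t ≠ 0) :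
    RootPair (t • a) b :=
  ⟨fun hz => h.fst_ne ((smul_eq_zero.mp hz).resolve_left ht), h.snd_ne, smul_dot h.dot t⟩

/-- Two root subgroups are adjacent: some non-trivial commuting elements have product in a root
subgroup. -/
def Adj (X Y : Subgroup (Matrix.ProjectiveSpecialLinearGroup (Fin n) F)) : Prop :=
  X ≠ Y ∧ ∃ x ∈ X, ∃ y ∈ Y, x ≠ 1 ∧ y ≠ 1 ∧ x * y = y * x ∧ ∃ R, IsRoot R ∧ x * y ∈ R

theorem tau_mul_coe {a b a' b' : Fin n → F} (h : b ⬝ᵥ a = 0) (h' : b' ⬝ᵥ a' = 0) :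
    ((tau a b h * tau a' b' h' : Matrix.SpecialLinearGroup (Fin n) F) : Matrix (Fin n) (Fin n) F) =
      1 + vecMulVec a b + vecMulVec a' b' + (b ⬝ᵥ a') • vecMulVec a b' := by
  rw [Matrix.SpecialLinearGroup.coe_mul, tau_coe, tau_coe, tauM, tauM, add_mul, mul_add, mul_add,
    one_mul, one_mul, mul_one, vecMulVec_mul_vecMulVec']
  abel

theorem adj_key {a b a' b' : Fin n → F} (h : RootPair a b) (h' : RootPair a' b')
    (hne : root a b ≠ root a' b')
    (hc : piPSL (Fin n) F (tau a b h.dot) * piPSL (Fin n) F (tau a' b' h'.dot) =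
      piPSL (Fin n) F (tau a' b' h'.dot) * piPSL (Fin n) F (tau a b h.dot))
    {R : Subgroup (Matrix.ProjectiveSpecialLinearGroup (Fin n) F)} (hR : IsRoot R)
    (hm : piPSL (Fin n) F (tau a b h.dot) * piPSL (Fin n) F (tau a' b' h'.dot) ∈ R) :
    Par a a' ∨ Par b b' := by
  set u := tau a b h.dot with hu
  set v := tau a' b' h'.dot with hv
  -- `u` and `v` commute
  have hcomm : u * v = v * u := by
    have hfix : ((u * v * u⁻¹ : Matrix.SpecialLinearGroup (Fin n) F) : Matrix (Fin n) (Fin n) F) *ᵥ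
        ((u : Matrix (Fin n) (Fin n) F) *ᵥ a') = (u : Matrix (Fin n) (Fin n) F) *ᵥ a' := by
      rw [mulVec_mulVec, ← Matrix.SpecialLinearGroup.coe_mul, inv_mul_cancel_right,
        Matrix.SpecialLinearGroup.coe_mul, ← mulVec_mulVec]
      congr 1
      show tauM a' b' *ᵥ a' = a'
      rw [tauM_mulVec, h'.dot, zero_smul, add_zero]
    have hne0 : (u : Matrix (Fin n) (Fin n) F) *ᵥ a' ≠ 0 := by
      intro hz
      apply h'.fst_ne
      have := congrArg (fun w => ((u⁻¹ : Matrix.SpecialLinearGroup (Fin n) F) :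
        Matrix (Fin n) (Fin n) F) *ᵥ w) hz
      simp only [mulVec_mulVec, ← Matrix.SpecialLinearGroup.coe_mul, inv_mul_cancel,
        Matrix.SpecialLinearGroup.coe_one, one_mulVec, mulVec_zero] at this
      exact this
    have := eq_tau_of_piPSL_eq hne0 h'.dot hfix (by
      rw [map_mul, map_mul, map_inv, hc, mul_inv_cancel_right])
    calc u * v = u * v * u⁻¹ * u := by group
      _ = v * u := by rw [this]
  have hM := congrArg Subtype.val hcomm
  rw [hu, hv, tau_mul_coe, tau_mul_coe] at hM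
  rw [add_right_comm (1 : Matrix (Fin n) (Fin n) F) (vecMulVec a' b'), add_right_inj] at hM
  -- the mixed products vanish
  have hz : b ⬝ᵥ a' = 0 ∧ b' ⬝ᵥ a = 0 := by
    by_cases h1 : b ⬝ᵥ a' = 0
    · refine ⟨h1, ?_⟩
      rw [h1, zero_smul, eq_comm, smul_eq_zero, vecMulVec_eq_zero] at hM
      rcases hM with h2 | h2 | h2
      · exact h2
      · exact absurd h2 h'.fst_ne
      · exact absurd h2 h.snd_ne
    · exfalso
      rw [← smul_vecMulVec, ← smul_vecMulVec] at hM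
      obtain ⟨c, hc0, hca, hcb⟩ := outer_eq (fun hz => h.fst_ne ((smul_eq_zero.mp hz).resolve_left h1))
        h'.snd_ne hM
      have hd0 : b' ⬝ᵥ a ≠ 0 := by
        intro hd
        rw [hd, zero_smul, eq_comm, smul_smul, smul_eq_zero] at hca
        rcases hca with hh | hh
        · exact mul_ne_zero hc0 h1 hh
        · exact h.fst_ne hh
      refine hne ((root_eq_iff h h').mpr ⟨⟨c * (b ⬝ᵥ a') / (b' ⬝ᵥ a), ?_, ?_⟩, ⟨c, hc0, hcb⟩⟩)
      · exact div_ne_zero (mul_ne_zero hc0 h1) hd0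
      · rw [div_eq_inv_mul, ← smul_smul, ← smul_smul c, ← hca, smul_smul, inv_mul_cancel₀ hd0, one_smul]
  obtain ⟨a'', b'', hR', rfl⟩ := hR
  rw [← map_mul] at hm
  obtain ⟨t, ht⟩ := (mem_root_iff hR'.dot).mp hm
  have hfix2 : ((u * v : Matrix.SpecialLinearGroup (Fin n) F) : Matrix (Fin n) (Fin n) F) *ᵥ a = a := by
    rw [Matrix.SpecialLinearGroup.coe_mul, ← mulVec_mulVec, hv, hu, tau_coe, tau_coe, tauM_mulVec,
      tauM_mulVec, hz.2, zero_smul, add_zero, h.dot, zero_smul, add_zero]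
  have he := congrArg Subtype.val (eq_tau_of_piPSL_eq h.fst_ne _ hfix2 ht)
  rw [hu, hv, tau_mul_coe, hz.1, zero_smul, add_zero] at he
  change _ = tauM (t • a'') b'' at he
  rw [tauM, add_assoc, add_right_inj] at he
  by_cases hpar : Par a a'
  · exact Or.inl hpar
  right
  have hcol : ∀ l, b l • a + b' l • a' = b'' l • (t • a'') := by
    intro l
    funext k
    have := congrFun (congrFun he k) l
    simp only [Matrix.add_apply, vecMulVec_apply] at this
    simp only [Pi.add_apply, Pi.smul_apply, smul_eq_mul] at this ⊢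
    linear_combination this
  obtain ⟨l, hl⟩ := Function.ne_iff.mp h.snd_ne
  simp only [Pi.zero_apply] at hl
  have hl'' : b'' l ≠ 0 := by
    intro hz''
    have := hcol l
    rw [hz'', zero_smul] at this
    exact hl (par_or_indep h.fst_ne h'.fst_ne hpar this).1
  have hk : ∀ k, b k = b'' k / b'' l * b l ∧ b' k = b'' k / b'' l * b' l := by
    intro k
    have h1 := hcol k
    have h2 := hcol l
    have hsum : (b k - b'' k / b'' l * b l) • a + (b' k - b'' k / b'' l * b' l) • a' = 0 := by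
      rw [sub_smul, sub_smul, ← smul_smul (b'' k / b'' l), ← smul_smul (b'' k / b'' l)]
      calc b k • a - (b'' k / b'' l) • (b l • a) + (b' k • a' - (b'' k / b'' l) • (b' l • a'))
          = (b k • a + b' k • a') - (b'' k / b'' l) • (b l • a + b' l • a') := by
            rw [smul_add]; abel
        _ = 0 := by
            rw [h1, h2, smul_smul (b'' k / b'' l), div_mul_cancel₀ _ hl'', sub_self]
    obtain ⟨e1, e2⟩ := par_or_indep h.fst_ne h'.fst_ne hpar hsum
    exact ⟨sub_eq_zero.mp e1, sub_eq_zero.mp e2⟩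
  have hl' : b' l ≠ 0 := by
    intro hz'
    apply h'.snd_ne
    funext k
    rw [(hk k).2, hz', mul_zero]; rfl
  refine ⟨b' l / b l, div_ne_zero hl' hl, ?_⟩
  funext k
  rw [Pi.smul_apply, smul_eq_mul, (hk k).1, (hk k).2]
  field_simp

theorem adj_iff {a b a' b' : Fin n → F} (h : RootPair a b) (h' : RootPair a' b') :
    Adj (root a b) (root a' b') ↔ root a b ≠ root a' b' ∧ (Par a a' ∨ Par b b') := by
  constructor
  · rintro ⟨hne, x, hx, y, hy, hx1, hy1, hc, R, hR, hm⟩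
    refine ⟨hne, ?_⟩
    obtain ⟨t, rfl⟩ := (mem_root_iff h.dot).mp hx
    obtain ⟨t', rfl⟩ := (mem_root_iff h'.dot).mp hy
    have ht : t ≠ 0 := by
      rintro rfl; apply hx1
      rw [show tau ((0 : F) • a) b (smul_dot h.dot 0) = 1 from Subtype.ext (by simp [tau, tauM]), map_one]
    have ht' : t' ≠ 0 := by
      rintro rfl; apply hy1
      rw [show tau ((0 : F) • a') b' (smul_dot h'.dot 0) = 1 from Subtype.ext (by simp [tau, tauM]), map_one]
    have hne' : root (t • a) b ≠ root (t' • a') b' := by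
      rwa [← root_smul h.dot ht one_ne_zero, ← root_smul h'.dot ht' one_ne_zero, one_smul, one_smul] at hne
    rcases adj_key (h.of_smul ht) (h'.of_smul ht') hne' hc hR hm with hp | hp
    · left
      exact (Par.trans ⟨t, ht, rfl⟩ hp).trans ⟨t'⁻¹, inv_ne_zero ht', by
        rw [smul_smul, inv_mul_cancel₀ ht', one_smul]⟩
    · exact Or.inr hp
  · rintro ⟨hne, hp⟩
    refine ⟨hne, ?_⟩
    rcases hp with hp | hp
    · have h2 : RootPair a b' := ⟨h.fst_ne, h'.snd_ne, hp.symm.dot_eq_zero h'.dot⟩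
      have hroot : root a' b' = root a b' := ((root_eq_iff h2 h').mpr ⟨hp, Par.refl _⟩).symm
      rw [hroot] at hne ⊢
      have hsum : b + b' ≠ 0 := by
        intro hz
        exact hne ((root_eq_iff h h2).mpr ⟨Par.refl _, ⟨-1, by simp, by
          rw [neg_one_smul]; exact eq_neg_of_add_eq_zero_right hz⟩⟩)
      have hs : RootPair a (b + b') := ⟨h.fst_ne, hsum, by rw [add_dotProduct, h.dot, h2.dot, add_zero]⟩
      have e1 : tau a b h.dot * tau a b' h2.dot = tau a (b + b') hs.dot := Subtype.ext (by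
        rw [tau_mul_coe, h.dot, zero_smul, add_zero]; show _ = tauM _ _
        rw [tauM, vecMulVec_add, add_assoc])
      have e2 : tau a b' h2.dot * tau a b h.dot = tau a (b + b') hs.dot := Subtype.ext (by
        rw [tau_mul_coe, h2.dot, zero_smul, add_zero]; show _ = tauM _ _
        rw [tauM, vecMulVec_add]; abel)
      refine ⟨_, tau_mem_root h.dot, _, tau_mem_root h2.dot, piPSL_tau_ne_one h.fst_ne h.snd_ne _,
        piPSL_tau_ne_one h2.fst_ne h2.snd_ne _, by rw [← map_mul, ← map_mul, e1, e2],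
        _, ⟨a, b + b', hs, rfl⟩, ?_⟩
      rw [← map_mul, e1]
      exact tau_mem_root hs.dot
    · have h2 : RootPair a' b := ⟨h'.fst_ne, h.snd_ne, hp.symm.dot_eq_zero' h'.dot⟩
      have hroot : root a' b' = root a' b := ((root_eq_iff h2 h').mpr ⟨Par.refl _, hp⟩).symm
      rw [hroot] at hne ⊢
      have hsum : a + a' ≠ 0 := by
        intro hz
        exact hne ((root_eq_iff h h2).mpr ⟨⟨-1, by simp, by
          rw [neg_one_smul]; exact eq_neg_of_add_eq_zero_right hz⟩, Par.refl _⟩)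
      have hs : RootPair (a + a') b := ⟨hsum, h.snd_ne, by rw [dotProduct_add, h.dot, h2.dot, add_zero]⟩
      have e1 : tau a b h.dot * tau a' b h2.dot = tau (a + a') b hs.dot := Subtype.ext (by
        rw [tau_mul_coe, h2.dot, zero_smul, add_zero]; show _ = tauM _ _
        rw [tauM, add_vecMulVec, add_assoc])
      have e2 : tau a' b h2.dot * tau a b h.dot = tau (a + a') b hs.dot := Subtype.ext (by
        rw [tau_mul_coe, h.dot, zero_smul, add_zero]; show _ = tauM _ _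
        rw [tauM, add_vecMulVec]; abel)
      refine ⟨_, tau_mem_root h.dot, _, tau_mem_root h2.dot, piPSL_tau_ne_one h.fst_ne h.snd_ne _,
        piPSL_tau_ne_one h2.fst_ne h2.snd_ne _, by rw [← map_mul, ← map_mul, e1, e2],
        _, ⟨a + a', b, hs, rfl⟩, ?_⟩
      rw [← map_mul, e1]
      exact tau_mem_root hs.dot

theorem exists_perp2 (hn : 3 ≤ n) (a c : Fin n → F) :
    ∃ b : Fin n → F, b ≠ 0 ∧ b ⬝ᵥ a = 0 ∧ b ⬝ᵥ c = 0 := by
  let f : (Fin n → F) →ₗ[F] F × F :=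
    { toFun := fun b => (b ⬝ᵥ a, b ⬝ᵥ c)
      map_add' := fun x y => by simp [add_dotProduct]
      map_smul' := fun t x => by simp [smul_dotProduct] }
  have h : f.ker ≠ ⊥ := by
    apply LinearMap.ker_ne_bot_of_finrank_lt
    simp; omega
  obtain ⟨b, hb, hb0⟩ := Submodule.exists_mem_ne_zero_of_ne_bot h
  rw [LinearMap.mem_ker] at hb
  exact ⟨b, hb0, congrArg Prod.fst hb, congrArg Prod.snd hb⟩

theorem exists_perp_not_par (hn : 3 ≤ n) (a : Fin n → F) {b₁ : Fin n → F} (hb₁ : b₁ ≠ 0) :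
    ∃ b : Fin n → F, b ≠ 0 ∧ b ⬝ᵥ a = 0 ∧ ¬ Par b₁ b := by
  obtain ⟨i, hi⟩ := Function.ne_iff.mp hb₁
  obtain ⟨b, hb0, hba, hbi⟩ := exists_perp2 hn a (e i)
  refine ⟨b, hb0, hba, ?_⟩
  rintro ⟨c, hc, rfl⟩
  simp [e, hc] at hbi
  exact hi (by simpa using hbi)

/-- Root subgroups with the given point. -/
def star (a : Fin n → F) : Set (Subgroup (Matrix.ProjectiveSpecialLinearGroup (Fin n) F)) :=
  {R | ∃ b, RootPair a b ∧ R = root a b}

/-- Root subgroups with the given hyperplane. -/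
def costar (b : Fin n → F) : Set (Subgroup (Matrix.ProjectiveSpecialLinearGroup (Fin n) F)) :=
  {R | ∃ a, RootPair a b ∧ R = root a b}

theorem star_nonempty (hn : 3 ≤ n) {a : Fin n → F} (ha : a ≠ 0) :
    ∃ b₁ b₂, RootPair a b₁ ∧ RootPair a b₂ ∧ root a b₁ ≠ root a b₂ := by
  obtain ⟨b₁, h1, h1', -⟩ := exists_perp2 hn a a
  obtain ⟨b₂, h2, h2', hnp⟩ := exists_perp_not_par hn a h1
  exact ⟨b₁, b₂, ⟨ha, h1, h1'⟩, ⟨ha, h2, h2'⟩,
    fun he => hnp ((root_eq_iff ⟨ha, h1, h1'⟩ ⟨ha, h2, h2'⟩).mp he).2⟩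

theorem costar_nonempty (hn : 3 ≤ n) {b : Fin n → F} (hb : b ≠ 0) :
    ∃ a₁ a₂, RootPair a₁ b ∧ RootPair a₂ b ∧ root a₁ b ≠ root a₂ b := by
  obtain ⟨a₁, h1, h1', -⟩ := exists_perp2 hn b b
  obtain ⟨a₂, h2, h2', hnp⟩ := exists_perp_not_par hn b h1
  rw [dotProduct_comm] at h1' h2'
  exact ⟨a₁, a₂, ⟨h1, hb, h1'⟩, ⟨h2, hb, h2'⟩,
    fun he => hnp ((root_eq_iff ⟨h1, hb, h1'⟩ ⟨h2, hb, h2'⟩).mp he).1⟩

theorem star_eq_of_par {a a' : Fin n → F} (h : Par a a') : star a = star a' := by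
  ext R
  constructor
  · rintro ⟨b, hab, rfl⟩
    have h2 : RootPair a' b := ⟨by
      obtain ⟨c, hc, rfl⟩ := h
      exact fun hz => hab.fst_ne ((smul_eq_zero.mp hz).resolve_left hc), hab.snd_ne, h.dot_eq_zero hab.dot⟩
    exact ⟨b, h2, (root_eq_iff hab h2).mpr ⟨h, Par.refl _⟩⟩
  · rintro ⟨b, hab, rfl⟩
    have h2 : RootPair a b := ⟨by
      obtain ⟨c, hc, rfl⟩ := h
      exact fun hz => hab.fst_ne (by rw [hz, smul_zero]), hab.snd_ne, h.symm.dot_eq_zero hab.dot⟩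
    exact ⟨b, h2, (root_eq_iff hab h2).mpr ⟨h.symm, Par.refl _⟩⟩

theorem par_of_star_eq (hn : 3 ≤ n) {a a' : Fin n → F} (ha : a ≠ 0) (h : star a = star a') :
    Par a a' := by
  obtain ⟨b₁, -, h1, -, -⟩ := star_nonempty hn ha
  obtain ⟨b', h', he⟩ : root a b₁ ∈ star a' := h ▸ ⟨b₁, h1, rfl⟩
  exact ((root_eq_iff h1 h').mp he).1

theorem par_of_costar_eq (hn : 3 ≤ n) {b b' : Fin n → F} (hb : b ≠ 0) (h : costar b = costar b') :
    Par b b' := by
  obtain ⟨a₁, -, h1, -, -⟩ := costar_nonempty hn hb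
  obtain ⟨a', h', he⟩ : root a₁ b ∈ costar b' := h ▸ ⟨a₁, h1, rfl⟩
  exact ((root_eq_iff h1 h').mp he).2

theorem star_ne_costar (hn : 3 ≤ n) {a : Fin n → F} (ha : a ≠ 0) (b : Fin n → F) :
    star a ≠ costar b := by
  intro h
  obtain ⟨b₁, b₂, h1, h2, hne⟩ := star_nonempty hn ha
  obtain ⟨a1, h1', e1⟩ : root a b₁ ∈ costar b := h ▸ ⟨b₁, h1, rfl⟩
  obtain ⟨a2, h2', e2⟩ : root a b₂ ∈ costar b := h ▸ ⟨b₂, h2, rfl⟩
  exact hne ((root_eq_iff h1 h2).mpr ⟨Par.refl _,
    ((root_eq_iff h1 h1').mp e1).2.trans ((root_eq_iff h2 h2').mp e2).2.symm⟩)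

/-- The closure of an edge. -/
def edgeSet (X Y : Subgroup (Matrix.ProjectiveSpecialLinearGroup (Fin n) F)) :
    Set (Subgroup (Matrix.ProjectiveSpecialLinearGroup (Fin n) F)) :=
  {W | IsRoot W ∧ (W = X ∨ W = Y ∨ (Adj W X ∧ Adj W Y))}

theorem edgeSet_star {a b₁ b₂ : Fin n → F} (h1 : RootPair a b₁) (h2 : RootPair a b₂)
    (hne : root a b₁ ≠ root a b₂) : edgeSet (root a b₁) (root a b₂) = star a := by
  ext W
  constructor
  · rintro ⟨⟨c, d, hcd, rfl⟩, hW⟩
    rcases hW with hW | hW | ⟨hX, hY⟩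
    · exact ⟨b₁, h1, hW⟩
    · exact ⟨b₂, h2, hW⟩
    · have hp : Par c a := by
        rcases ((adj_iff hcd h1).mp hX).2 with hp | hp
        · exact hp
        · rcases ((adj_iff hcd h2).mp hY).2 with hp' | hp'
          · exact hp'
          · exact absurd ((root_eq_iff h1 h2).mpr ⟨Par.refl _, hp.symm.trans hp'⟩) hne
      rw [← star_eq_of_par hp]
      exact ⟨d, hcd, rfl⟩
  · rintro ⟨b, hb, rfl⟩
    refine ⟨⟨a, b, hb, rfl⟩, ?_⟩
    by_cases e1 : root a b = root a b₁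
    · exact Or.inl e1
    by_cases e2 : root a b = root a b₂
    · exact Or.inr (Or.inl e2)
    exact Or.inr (Or.inr ⟨(adj_iff hb h1).mpr ⟨e1, Or.inl (Par.refl _)⟩,
      (adj_iff hb h2).mpr ⟨e2, Or.inl (Par.refl _)⟩⟩)

theorem edgeSet_costar {b a₁ a₂ : Fin n → F} (h1 : RootPair a₁ b) (h2 : RootPair a₂ b)
    (hne : root a₁ b ≠ root a₂ b) : edgeSet (root a₁ b) (root a₂ b) = costar b := by
  ext W
  constructor
  · rintro ⟨⟨c, d, hcd, rfl⟩, hW⟩
    rcases hW with hW | hW | ⟨hX, hY⟩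
    · exact ⟨a₁, h1, hW⟩
    · exact ⟨a₂, h2, hW⟩
    · have hp : Par d b := by
        rcases ((adj_iff hcd h1).mp hX).2 with hp | hp
        · rcases ((adj_iff hcd h2).mp hY).2 with hp' | hp'
          · exact absurd ((root_eq_iff h1 h2).mpr ⟨hp.symm.trans hp', Par.refl _⟩) hne
          · exact hp'
        · exact hp
      have h3 : RootPair c b := ⟨hcd.fst_ne, h1.snd_ne, hp.dot_eq_zero' hcd.dot⟩
      exact ⟨c, h3, (root_eq_iff hcd h3).mpr ⟨Par.refl _, hp⟩⟩
  · rintro ⟨a, ha, rfl⟩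
    refine ⟨⟨a, b, ha, rfl⟩, ?_⟩
    by_cases e1 : root a b = root a₁ b
    · exact Or.inl e1
    by_cases e2 : root a b = root a₂ b
    · exact Or.inr (Or.inl e2)
    exact Or.inr (Or.inr ⟨(adj_iff ha h1).mpr ⟨e1, Or.inr (Par.refl _)⟩,
      (adj_iff ha h2).mpr ⟨e2, Or.inr (Par.refl _)⟩⟩)

/-- Image of a subgroup under an automorphism. -/
abbrev img (α : MulAut (Matrix.ProjectiveSpecialLinearGroup (Fin n) F))
    (R : Subgroup (Matrix.ProjectiveSpecialLinearGroup (Fin n) F)) :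
    Subgroup (Matrix.ProjectiveSpecialLinearGroup (Fin n) F) := R.map α.toMonoidHom

theorem img_img (α β : MulAut (Matrix.ProjectiveSpecialLinearGroup (Fin n) F))
    (R : Subgroup (Matrix.ProjectiveSpecialLinearGroup (Fin n) F)) :
    img α (img β R) = img (α * β) R := by
  rw [img, img, Subgroup.map_map]; rfl

theorem img_one (R : Subgroup (Matrix.ProjectiveSpecialLinearGroup (Fin n) F)) :
    img 1 R = R := Subgroup.map_id R

theorem img_injective (α : MulAut (Matrix.ProjectiveSpecialLinearGroup (Fin n) F)) :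
    Function.Injective (img α) := by
  intro R R' h
  have := congrArg (img α⁻¹) h
  rwa [img_img, img_img, inv_mul_cancel, img_one, img_one] at this

variable [Fintype F] [NeZero n]

theorem Adj.map (hn : 3 ≤ n) {X Y : Subgroup (Matrix.ProjectiveSpecialLinearGroup (Fin n) F)}
    (h : Adj X Y) (α : MulAut (Matrix.ProjectiveSpecialLinearGroup (Fin n) F)) :
    Adj (img α X) (img α Y) := by
  obtain ⟨hne, x, hx, y, hy, hx1, hy1, hc, R, hR, hm⟩ := h
  refine ⟨fun he => hne (img_injective α he), α x, ⟨x, hx, rfl⟩, α y, ⟨y, hy, rfl⟩, ?_, ?_, ?_,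
    img α R, hR.map (by omega) α, ?_⟩
  · exact fun h => hx1 (α.injective (h.trans (map_one α).symm))
  · exact fun h => hy1 (α.injective (h.trans (map_one α).symm))
  · rw [← map_mul, ← map_mul, hc]
  · rw [← map_mul]; exact ⟨_, hm, rfl⟩

theorem edgeSet_image (hn : 3 ≤ n) (X Y : Subgroup (Matrix.ProjectiveSpecialLinearGroup (Fin n) F))
    (α : MulAut (Matrix.ProjectiveSpecialLinearGroup (Fin n) F)) :
    img α '' edgeSet X Y = edgeSet (img α X) (img α Y) := by
  ext W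
  constructor
  · rintro ⟨V, ⟨hV, hV'⟩, rfl⟩
    refine ⟨hV.map (by omega) α, ?_⟩
    rcases hV' with rfl | rfl | ⟨h1, h2⟩
    · exact Or.inl rfl
    · exact Or.inr (Or.inl rfl)
    · exact Or.inr (Or.inr ⟨h1.map hn α, h2.map hn α⟩)
  · rintro ⟨hW, hW'⟩
    have hback : ∀ Z, img α⁻¹ (img α Z) = Z := fun Z => by rw [img_img, inv_mul_cancel, img_one]
    refine ⟨img α⁻¹ W, ⟨hW.map (by omega) α⁻¹, ?_⟩, by rw [img_img, mul_inv_cancel, img_one]⟩
    rcases hW' with rfl | rfl | ⟨h1, h2⟩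
    · exact Or.inl (hback X)
    · exact Or.inr (Or.inl (hback Y))
    · have e1 := h1.map hn α⁻¹
      have e2 := h2.map hn α⁻¹
      rw [hback] at e1 e2
      exact Or.inr (Or.inr ⟨e1, e2⟩)

theorem image_star (hn : 3 ≤ n) (α : MulAut (Matrix.ProjectiveSpecialLinearGroup (Fin n) F))
    {a : Fin n → F} (ha : a ≠ 0) :
    (∃ a', a' ≠ 0 ∧ img α '' star a = star a') ∨ (∃ b', b' ≠ 0 ∧ img α '' star a = costar b') := by
  obtain ⟨b₁, b₂, h1, h2, hne⟩ := star_nonempty hn ha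
  rw [← edgeSet_star h1 h2 hne, edgeSet_image hn]
  have hadj := Adj.map hn ((adj_iff h1 h2).mpr ⟨hne, Or.inl (Par.refl _)⟩) α
  obtain ⟨c, d, hcd, hX⟩ := IsRoot.map (R := root a b₁) (by omega) ⟨a, b₁, h1, rfl⟩ α
  obtain ⟨c', d', hcd', hY⟩ := IsRoot.map (R := root a b₂) (by omega) ⟨a, b₂, h2, rfl⟩ α
  rw [show img α (root a b₁) = root c d from hX, show img α (root a b₂) = root c' d' from hY] at hadj ⊢
  obtain ⟨hne', hp⟩ := (adj_iff hcd hcd').mp hadj
  rcases hp with hp | hp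
  · have h3 : RootPair c d' := ⟨hcd.fst_ne, hcd'.snd_ne, hp.symm.dot_eq_zero hcd'.dot⟩
    have e := (root_eq_iff h3 hcd').mpr ⟨hp, Par.refl _⟩
    rw [← e] at hne' ⊢
    exact Or.inl ⟨c, hcd.fst_ne, edgeSet_star hcd h3 hne'⟩
  · have h3 : RootPair c' d := ⟨hcd'.fst_ne, hcd.snd_ne, hp.symm.dot_eq_zero' hcd'.dot⟩
    have e := (root_eq_iff h3 hcd').mpr ⟨Par.refl _, hp⟩
    rw [← e] at hne' ⊢
    exact Or.inr ⟨d, hcd.snd_ne, edgeSet_costar hcd h3 hne'⟩

theorem image_costar (hn : 3 ≤ n) (α : MulAut (Matrix.ProjectiveSpecialLinearGroup (Fin n) F))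
    {b : Fin n → F} (hb : b ≠ 0) :
    (∃ a', a' ≠ 0 ∧ img α '' costar b = star a') ∨ (∃ b', b' ≠ 0 ∧ img α '' costar b = costar b') := by
  obtain ⟨a₁, a₂, h1, h2, hne⟩ := costar_nonempty hn hb
  rw [← edgeSet_costar h1 h2 hne, edgeSet_image hn]
  have hadj := Adj.map hn ((adj_iff h1 h2).mpr ⟨hne, Or.inr (Par.refl _)⟩) α
  obtain ⟨c, d, hcd, hX⟩ := IsRoot.map (R := root a₁ b) (by omega) ⟨a₁, b, h1, rfl⟩ α
  obtain ⟨c', d', hcd', hY⟩ := IsRoot.map (R := root a₂ b) (by omega) ⟨a₂, b, h2, rfl⟩ α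
  rw [show img α (root a₁ b) = root c d from hX, show img α (root a₂ b) = root c' d' from hY] at hadj ⊢
  obtain ⟨hne', hp⟩ := (adj_iff hcd hcd').mp hadj
  rcases hp with hp | hp
  · have h3 : RootPair c d' := ⟨hcd.fst_ne, hcd'.snd_ne, hp.symm.dot_eq_zero hcd'.dot⟩
    have e := (root_eq_iff h3 hcd').mpr ⟨hp, Par.refl _⟩
    rw [← e] at hne' ⊢
    exact Or.inl ⟨c, hcd.fst_ne, edgeSet_star hcd h3 hne'⟩
  · have h3 : RootPair c' d := ⟨hcd'.fst_ne, hcd.snd_ne, hp.symm.dot_eq_zero' hcd'.dot⟩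
    have e := (root_eq_iff h3 hcd').mpr ⟨Par.refl _, hp⟩
    rw [← e] at hne' ⊢
    exact Or.inr ⟨d, hcd.snd_ne, edgeSet_costar hcd h3 hne'⟩

/-- `α` maps stars to stars and costars to costars. -/
def Preserves (α : MulAut (Matrix.ProjectiveSpecialLinearGroup (Fin n) F)) : Prop :=
  (∀ a : Fin n → F, a ≠ 0 → ∃ a', a' ≠ 0 ∧ img α '' star a = star a') ∧
  (∀ b : Fin n → F, b ≠ 0 → ∃ b', b' ≠ 0 ∧ img α '' costar b = costar b')

theorem preserves_of_one (hn : 3 ≤ n) (α : MulAut (Matrix.ProjectiveSpecialLinearGroup (Fin n) F))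
    {a0 a0' : Fin n → F} (ha0 : a0 ≠ 0) (h0 : img α '' star a0 = star a0') : Preserves α := by
  have hinj := img_injective α
  -- costars whose hyperplane contains `c`, when the star of `c` goes to a star
  have step1 : ∀ c c' b : Fin n → F, c ≠ 0 → b ≠ 0 → img α '' star c = star c' → b ⬝ᵥ c = 0 →
      ∃ b', b' ≠ 0 ∧ img α '' costar b = costar b' := by
    intro c c' b hc hb hcs hbc
    rcases image_costar hn α hb with ⟨a', ha', he⟩ | h
    · exfalso
      have hX : RootPair c b := ⟨hc, hb, hbc⟩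
      obtain ⟨d1, h1, e1⟩ : img α (root c b) ∈ star c' := hcs ▸ ⟨_, ⟨b, hX, rfl⟩, rfl⟩
      obtain ⟨d2, h2, e2⟩ : img α (root c b) ∈ star a' := he ▸ ⟨_, ⟨c, hX, rfl⟩, rfl⟩
      have hp := ((root_eq_iff h1 h2).mp (e1.symm.trans e2)).1
      have : star c = costar b := hinj.image_injective (by rw [hcs, he, star_eq_of_par hp])
      exact star_ne_costar hn hc b this
    · exact h
  have hstar : ∀ a : Fin n → F, a ≠ 0 → ∃ a', a' ≠ 0 ∧ img α '' star a = star a' := by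
    intro a ha
    obtain ⟨b, hb, hba0, hba⟩ := exists_perp2 hn a0 a
    obtain ⟨b', hb', hbs⟩ := step1 a0 a0' b ha0 hb h0 hba0
    rcases image_star hn α ha with h | ⟨b'', hb'', he⟩
    · exact h
    · exfalso
      have hX : RootPair a b := ⟨ha, hb, hba⟩
      obtain ⟨d1, h1, e1⟩ : img α (root a b) ∈ costar b' := hbs ▸ ⟨_, ⟨a, hX, rfl⟩, rfl⟩
      obtain ⟨d2, h2, e2⟩ : img α (root a b) ∈ costar b'' := he ▸ ⟨_, ⟨b, hX, rfl⟩, rfl⟩
      have hp := ((root_eq_iff h1 h2).mp (e1.symm.trans e2)).2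
      have hcc : costar b' = costar b'' := by
        ext R
        constructor
        · rintro ⟨x, hx, rfl⟩
          have h3 : RootPair x b'' := ⟨hx.fst_ne, hb'', hp.dot_eq_zero' hx.dot⟩
          exact ⟨x, h3, (root_eq_iff hx h3).mpr ⟨Par.refl _, hp⟩⟩
        · rintro ⟨x, hx, rfl⟩
          have h3 : RootPair x b' := ⟨hx.fst_ne, hb', hp.symm.dot_eq_zero' hx.dot⟩
          exact ⟨x, h3, (root_eq_iff hx h3).mpr ⟨Par.refl _, hp.symm⟩⟩
      have : star a = costar b := hinj.image_injective (by rw [he, hbs, hcc])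
      exact star_ne_costar hn ha b this
  refine ⟨hstar, fun b hb => ?_⟩
  obtain ⟨a₁, -, h1, -, -⟩ := costar_nonempty hn hb
  obtain ⟨a', -, hs⟩ := hstar a₁ h1.fst_ne
  exact step1 a₁ a' b h1.fst_ne hb hs h1.dot

theorem image_it_costar (b : Fin n → F) :
    img (itAut n F) '' costar b = star b := by
  ext R
  constructor
  · rintro ⟨_, ⟨a, ha, rfl⟩, rfl⟩
    exact ⟨a, ⟨ha.snd_ne, ha.fst_ne, by rw [dotProduct_comm, ha.dot]⟩, root_map_it ha.dot⟩
  · rintro ⟨a, ha, rfl⟩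
    have h2 : RootPair a b := ⟨ha.snd_ne, ha.fst_ne, by rw [dotProduct_comm, ha.dot]⟩
    exact ⟨root a b, ⟨a, h2, rfl⟩, root_map_it h2.dot⟩

theorem preserves_or (hn : 3 ≤ n) (α : MulAut (Matrix.ProjectiveSpecialLinearGroup (Fin n) F)) :
    Preserves α ∨ Preserves (itAut n F * α) := by
  have ha : (e (0 : Fin n) : Fin n → F) ≠ 0 := by intro h; simp [e] at h
  rcases image_star hn α ha with ⟨a', -, h⟩ | ⟨b', -, h⟩
  · exact Or.inl (preserves_of_one hn α ha h)
  · refine Or.inr (preserves_of_one hn _ (a0' := b') ha ?_)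
    rw [← image_it_costar (F := F) b', ← h, Set.image_image]
    simp only [img_img]

theorem Preserves.fix_frame (hn : 3 ≤ n) {α : MulAut (Matrix.ProjectiveSpecialLinearGroup (Fin n) F)}
    (h : Preserves α) : ∃ g : GL (Fin n) F, ∀ β : MulAut (Matrix.ProjectiveSpecialLinearGroup (Fin n) F),
      IsSemi g 1 β → ∀ i j : Fin n, i ≠ j →
        img α (root (e i) (e j)) = img β (root (e i) (e j)) := by
  classical
  choose f hf0 hf using h.1
  choose r hr0 hr using h.2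
  have hinj := img_injective α
  have hne : ∀ i, (e i : Fin n → F) ≠ 0 := fun i h => by simp [e] at h
  have hroot : ∀ a b, ∀ hab : RootPair a b,
      RootPair (f a hab.fst_ne) (r b hab.snd_ne) ∧
        img α (root a b) = root (f a hab.fst_ne) (r b hab.snd_ne) := by
    intro a b hab
    obtain ⟨d, h1, e1⟩ : img α (root a b) ∈ star (f a hab.fst_ne) :=
      hf a hab.fst_ne ▸ ⟨_, ⟨b, hab, rfl⟩, rfl⟩
    obtain ⟨c, h2, e2⟩ : img α (root a b) ∈ costar (r b hab.snd_ne) :=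
      hr b hab.snd_ne ▸ ⟨_, ⟨a, hab, rfl⟩, rfl⟩
    obtain ⟨hp1, hp2⟩ := (root_eq_iff h1 h2).mp (e1.symm.trans e2)
    have h3 : RootPair (f a hab.fst_ne) (r b hab.snd_ne) := ⟨h1.fst_ne, h2.snd_ne, hp2.dot_eq_zero' h1.dot⟩
    exact ⟨h3, e1.trans ((root_eq_iff h1 h3).mpr ⟨Par.refl _, hp2⟩)⟩
  have hinc : ∀ (a b : Fin n → F) (ha : a ≠ 0) (hb : b ≠ 0), r b hb ⬝ᵥ f a ha = 0 → b ⬝ᵥ a = 0 := by
    intro a b ha hb hd
    have hX : RootPair (f a ha) (r b hb) := ⟨hf0 a ha, hr0 b hb, hd⟩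
    have hback : IsRoot (img α⁻¹ (root (f a ha) (r b hb))) :=
      IsRoot.map (by omega) ⟨_, _, hX, rfl⟩ α⁻¹
    obtain ⟨a1, b1, h1, e1⟩ := hback
    have e2 : img α (root a1 b1) = root (f a ha) (r b hb) := by
      rw [← e1, img_img, mul_inv_cancel, img_one]
    obtain ⟨h1', e3⟩ := hroot a1 b1 h1
    obtain ⟨p1, p2⟩ := (root_eq_iff h1' hX).mp (e3.symm.trans e2)
    have q1 : Par a1 a := par_of_star_eq hn h1.fst_ne (hinj.image_injective (by
      rw [hf a1 h1.fst_ne, hf a ha, star_eq_of_par p1]))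
    have q2 : Par b1 b := par_of_costar_eq hn h1.snd_ne (hinj.image_injective (by
      rw [hr b1 h1.snd_ne, hr b hb]
      ext R
      constructor
      · rintro ⟨x, hx, rfl⟩
        have h3 : RootPair x (r b hb) := ⟨hx.fst_ne, hr0 b hb, p2.dot_eq_zero' hx.dot⟩
        exact ⟨x, h3, (root_eq_iff hx h3).mpr ⟨Par.refl _, p2⟩⟩
      · rintro ⟨x, hx, rfl⟩
        have h3 : RootPair x (r b1 h1.snd_ne) := ⟨hx.fst_ne, h1'.snd_ne, p2.symm.dot_eq_zero' hx.dot⟩
        exact ⟨x, h3, (root_eq_iff hx h3).mpr ⟨Par.refl _, p2.symm⟩⟩))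
    exact q2.dot_eq_zero' (q1.dot_eq_zero h1.dot)
  let A : Matrix (Fin n) (Fin n) F := Matrix.of fun k i => f (e i) (hne i) k
  let B : Matrix (Fin n) (Fin n) F := Matrix.of fun j k => r (e j) (hne j) k
  have hBA : ∀ i j, i ≠ j → r (e j) (hne j) ⬝ᵥ f (e i) (hne i) = 0 := fun i j hij =>
    (hroot (e i) (e j) ⟨hne i, hne j, dot_e hij⟩).1.dot
  have hd : ∀ i, r (e i) (hne i) ⬝ᵥ f (e i) (hne i) ≠ 0 := by
    intro i hz
    have := hinc _ _ (hne i) (hne i) hz
    simp [e] at this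
  have hprod : B * A = Matrix.diagonal (fun i => r (e i) (hne i) ⬝ᵥ f (e i) (hne i)) := by
    ext j i
    by_cases hij : j = i
    · subst hij; rw [Matrix.diagonal_apply_eq]; rfl
    · rw [Matrix.diagonal_apply_ne _ hij]; exact hBA i j (Ne.symm hij)
  have hA : IsUnit A.det := by
    have : (B * A).det ≠ 0 := by
      rw [hprod, Matrix.det_diagonal]; exact Finset.prod_ne_zero_iff.mpr fun i _ => hd i
    rw [Matrix.det_mul] at this
    exact isUnit_iff_ne_zero.mpr (right_ne_zero_of_mul this)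
  refine ⟨Matrix.GeneralLinearGroup.mk'' A hA, fun β hβ i j hij => ?_⟩
  set g := Matrix.GeneralLinearGroup.mk'' A hA with hg
  have hgA : (g : Matrix (Fin n) (Fin n) F) = A := rfl
  obtain ⟨hX, e1⟩ := hroot (e i) (e j) ⟨hne i, hne j, dot_e hij⟩
  rw [e1, img, root_map_conjGL hβ (dot_e hij)]
  refine (root_eq_iff hX ((⟨hne i, hne j, dot_e hij⟩ : RootPair (F := F) (e i) (e j)).semi g 1)).mpr
    ⟨⟨1, one_ne_zero, ?_⟩, ?_⟩
  · show (g : Matrix (Fin n) (Fin n) F) *ᵥ e i = (1 : F) • _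
    rw [one_smul, hgA, mulVec_single_one]
    rfl
  · refine ⟨(r (e j) (hne j) ⬝ᵥ f (e j) (hne j))⁻¹, inv_ne_zero (hd j), ?_⟩
    show e j ᵥ* ((g⁻¹ : GL (Fin n) F) : Matrix (Fin n) (Fin n) F) = _
    have hrow : r (e j) (hne j) ᵥ* A = (r (e j) (hne j) ⬝ᵥ f (e j) (hne j)) • e j := by
      funext k
      show r (e j) (hne j) ⬝ᵥ f (e k) (hne k) = _
      by_cases hkj : k = j
      · subst hkj; simp [e]
      · rw [hBA k j hkj]; simp [e, hkj]
    have h2 := congrArg (fun v => v ᵥ* ((g⁻¹ : GL (Fin n) F) : Matrix (Fin n) (Fin n) F)) hrow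
    simp only [vecMul_vecMul, ← hgA, smul_vecMul] at h2
    rw [← Units.val_mul, mul_inv_cancel, Units.val_one, vecMul_one] at h2
    have hd' := hd j
    generalize r (e j) (hne j) ⬝ᵥ f (e j) (hne j) = d at h2 hd' ⊢
    rw [h2, smul_smul, inv_mul_cancel₀ hd', one_smul]

end Cfsg.Agent.AutPSL
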