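import Mathlib
import Cfsg.Agent.AutPSL.Geometry
import Cfsg.Agent.Lib.LinearGroup.Generation

/-!
An automorphism of `PSL_n(q)` fixing the coordinate root subgroups is semilinear (helper60).
-/

set_option autoImplicit false

namespace Cfsg.Agent.AutPSL

open Matrix
open scoped commutatorElement

universe u

variable {n : ℕ} {F : Type u} [Field F]

/-- Hua: an additive injective map preserving `1` and inverses is multiplicative (char 2 uses
perfectness, automatic for finite fields). -/
theorem hua [Finite F] (f : F →+ F) (hf : Function.Injective f) (h1 : f 1 = 1)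
    (hinv : ∀ a, f a⁻¹ = (f a)⁻¹) (a b : F) : f (a * b) = f a * f b := by
  have hne : ∀ x : F, x ≠ 0 → f x ≠ 0 := fun x hx h => hx (hf (h.trans (map_zero f).symm))
  have key : ∀ a b : F, f (a ^ 2 * b) = f a ^ 2 * f b := by
    intro a b
    by_cases ha : a = 0
    · simp [ha]
    by_cases hb : b = 0
    · simp [hb]
    by_cases hab : a + b⁻¹ = 0
    · have h2 : a ^ 2 * b = -a := by
        have : a * b + 1 = 0 := by
          have := congrArg (· * b) hab
          simp only [add_mul, inv_mul_cancel₀ hb, zero_mul] at this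
          exact this
        linear_combination a * this
      have hb' : b = (-a)⁻¹ := by
        have h3 : b⁻¹ = -a := by linear_combination hab
        rw [← h3, inv_inv]
      have h4 : f b = (-(f a))⁻¹ := by rw [hb', hinv, map_neg]
      have := hne a ha
      rw [h2, map_neg, h4]
      field_simp
    · have h2 : (a ^ 2 * b + a)⁻¹ = a⁻¹ - (a + b⁻¹)⁻¹ := by
        have hab' : a * b + 1 ≠ 0 := by
          intro h
          apply hab
          field_simp
          linear_combination h
        have : a ^ 2 * b + a ≠ 0 := by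
          rw [show a ^ 2 * b + a = a * (a * b + 1) by ring]
          exact mul_ne_zero ha hab'
        field_simp
        ring
      have h3 := congrArg f h2
      rw [map_sub, hinv, hinv, hinv, map_add, map_add, hinv] at h3
      have hA := hne a ha
      have hB := hne b hb
      have hC : f a + (f b)⁻¹ ≠ 0 := by
        have := hne _ hab
        rwa [map_add, hinv] at this
      have hC' : f a * f b + 1 ≠ 0 := by
        intro h; apply hC; field_simp; linear_combination h
      have h4 : ((f a)⁻¹ - (f a + (f b)⁻¹)⁻¹) = (f a ^ 2 * f b + f a)⁻¹ := by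
        have : f a ^ 2 * f b + f a ≠ 0 := by
          rw [show f a ^ 2 * f b + f a = f a * (f a * f b + 1) by ring]
          exact mul_ne_zero hA hC'
        field_simp
        ring
      exact add_right_cancel (inv_injective (h3.trans h4))
  by_cases h2 : (2 : F) = 0
  · haveI : Fintype F := Fintype.ofFinite F
    have hc : ringChar F = 2 := by
      refine CharP.ringChar_of_prime_eq_zero Nat.prime_two ?_
      exact_mod_cast h2
    obtain ⟨c, rfl⟩ := FiniteField.isSquare_of_char_two hc a
    have h3 := key c b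
    have h4 := key c 1
    rw [mul_one, h1, mul_one] at h4
    rw [← pow_two, h4]
    exact h3
  · have hlin : ∀ c : F, f (2 * c) = 2 * f c := fun c => by rw [two_mul, two_mul, map_add]
    have hs : ∀ c : F, f (c ^ 2) = f c ^ 2 := fun c => by
      have := key c 1; rwa [mul_one, h1, mul_one] at this
    have h3 := hs (a + b)
    rw [show (a + b) ^ 2 = a ^ 2 + b ^ 2 + 2 * (a * b) by ring, map_add, map_add, hs, hs, hlin,
      map_add] at h3
    exact mul_left_cancel₀ h2 (by linear_combination h3)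

/-- The coordinate root element. -/
def rx (i j : Fin n) (h : i ≠ j) (t : F) : Matrix.ProjectiveSpecialLinearGroup (Fin n) F :=
  piPSL (Fin n) F (Matrix.SpecialLinearGroup.transvection h t)

theorem rx_mem (i j : Fin n) (h : i ≠ j) (t : F) : rx i j h t ∈ root (F := F) (e i) (e j) :=
  (mem_root_iff (dot_e h)).mpr ⟨t, by rw [rx, tau_eq_transvection h]⟩

theorem mem_root_e_iff {i j : Fin n} (h : i ≠ j) {x : Matrix.ProjectiveSpecialLinearGroup (Fin n) F} :
    x ∈ root (F := F) (e i) (e j) ↔ ∃ t, x = rx i j h t := by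
  rw [mem_root_iff (dot_e h)]
  simp only [rx, tau_eq_transvection h]

theorem rx_injective (i j : Fin n) (h : i ≠ j) : Function.Injective (rx (F := F) i j h) := by
  intro s t he
  by_cases hs : s = 0
  · subst hs
    by_contra hne
    have h1 : rx i j h (0 : F) = 1 := by
      rw [rx, Matrix.SpecialLinearGroup.transvection_coeff_zero, map_one]
    rw [h1, rx, ← tau_eq_transvection h] at he
    have hei : (e i : Fin n → F) ≠ 0 := fun hz => by simp [e] at hz
    have hej : (e j : Fin n → F) ≠ 0 := fun hz => by simp [e] at hz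
    exact piPSL_tau_ne_one (smul_ne_zero (Ne.symm hne) hei) hej _ he.symm
  · rw [rx, rx, ← tau_eq_transvection h, ← tau_eq_transvection h] at he
    have hei : (e i : Fin n → F) ≠ 0 := fun hz => by simp [e] at hz
    have := tau_inj (smul_ne_zero hs hei) _ _ he
    rw [vecMulVec_e, vecMulVec_e] at this
    simpa using congrFun (congrFun this i) j

theorem rx_add (i j : Fin n) (h : i ≠ j) (s t : F) : rx i j h (s + t) = rx i j h s * rx i j h t := by
  rw [rx, rx, rx, Matrix.SpecialLinearGroup.transvection_add, map_mul]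

theorem rx_comm (i j k : Fin n) (hij : i ≠ j) (hjk : j ≠ k) (hik : i ≠ k) (s t : F) :
    ⁅rx i j hij s, rx j k hjk t⁆ = rx i k hik (s * t) := by
  rw [rx, rx, rx, ← LinearGroup.commutator_transvection hij hjk hik, map_commutatorElement]

theorem aut_ext {α β : MulAut (Matrix.ProjectiveSpecialLinearGroup (Fin n) F)}
    (h : ∀ i j (hij : i ≠ j) (t : F), α (rx i j hij t) = β (rx i j hij t)) : α = β := by
  have : (α.toMonoidHom.comp (piPSL (Fin n) F)) = β.toMonoidHom.comp (piPSL (Fin n) F) :=
    LinearGroup.monoidHom_ext_transvection fun i j hij t => h i j hij t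
  apply MulEquiv.ext
  intro x
  obtain ⟨s, rfl⟩ := QuotientGroup.mk_surjective x
  exact DFunLike.congr_fun this s

theorem semi_diag_rx {d : Fin n → Fˣ} {σ : F ≃+* F}
    {β : MulAut (Matrix.ProjectiveSpecialLinearGroup (Fin n) F)}
    {g : GL (Fin n) F} (hg : (g : Matrix (Fin n) (Fin n) F) = Matrix.diagonal fun i => (d i : F))
    (hβ : IsSemi g σ β) (i j : Fin n) (h : i ≠ j) (t : F) :
    β (rx i j h t) = rx i j h ((d i : F) * σ t * (d j : F)⁻¹) := by
  refine hβ _ _ (eq_mul_inv_of_mul_eq ?_)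
  apply Units.ext
  rw [Units.val_mul, Units.val_mul, rho_coe, fieldMap_coe, rho_coe, hg,
    Matrix.SpecialLinearGroup.transvection_coe, Matrix.SpecialLinearGroup.transvection_coe]
  ext k l
  rw [Matrix.diagonal_mul, Matrix.mul_diagonal]
  simp only [Matrix.add_apply, Matrix.map_apply, Matrix.single_apply, Matrix.one_apply]
  by_cases hkl : k = l
  · subst hkl
    rw [if_pos rfl, if_neg (fun hh : i = k ∧ j = k => h (hh.1.trans hh.2.symm)),
      if_neg (fun hh : i = k ∧ j = k => h (hh.1.trans hh.2.symm))]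
    simp
  · rw [if_neg hkl]
    by_cases hh : i = k ∧ j = l
    · obtain ⟨rfl, rfl⟩ := hh
      rw [if_pos ⟨rfl, rfl⟩, if_pos ⟨rfl, rfl⟩, map_add, map_zero, zero_add, zero_add,
        inv_mul_cancel_right₀ (d j).ne_zero]
    · rw [if_neg hh, if_neg hh]; simp

variable [Fintype F]

theorem exists_coord (α : MulAut (Matrix.ProjectiveSpecialLinearGroup (Fin n) F))
    (hfix : ∀ i j : Fin n, i ≠ j → img α (root (e i) (e j)) = root (e i) (e j)) (i j : Fin n)
    (h : i ≠ j) : ∃ f : F →+ F, Function.Injective f ∧ ∀ t, α (rx i j h t) = rx i j h (f t) := by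
  have : ∀ t, ∃ u, α (rx i j h t) = rx i j h u := fun t =>
    (mem_root_e_iff h).mp (by
      rw [← hfix i j h]
      exact ⟨_, rx_mem i j h t, rfl⟩)
  choose f hf using this
  refine ⟨AddMonoidHom.mk' f fun s t => rx_injective i j h ?_, ?_, hf⟩
  · rw [← hf, rx_add, map_mul, hf, hf, ← rx_add]
  · intro s t he
    apply rx_injective i j h
    apply α.injective
    rw [hf, hf, show f s = f t from he]

/-- An automorphism fixing the coordinate root subgroups and `x₀ⱼ(1)` is a field automorphism. -/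
theorem exists_field_of_normalised [NeZero n] (hn : 3 ≤ n)
    (α : MulAut (Matrix.ProjectiveSpecialLinearGroup (Fin n) F))
    (hfix : ∀ i j : Fin n, i ≠ j → img α (root (e i) (e j)) = root (e i) (e j))
    (hone : ∀ j, ∀ h : (0 : Fin n) ≠ j, α (rx 0 j h 1) = rx 0 j h (1 : F)) :
    ∃ σ : F ≃+* F, ∀ i j (h : i ≠ j) t, α (rx i j h t) = rx i j h (σ t) := by
  classical
  choose f hfi hf using exists_coord α hfix
  have hmul : ∀ i j k (hij : i ≠ j) (hjk : j ≠ k) (hik : i ≠ k) (s t : F),
      f i k hik (s * t) = f i j hij s * f j k hjk t := by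
    intro i j k hij hjk hik s t
    apply rx_injective i k hik
    rw [← hf, ← rx_comm i j k hij hjk hik, map_commutatorElement, hf, hf, rx_comm i j k hij hjk hik]
  have h01 : ∀ j (h : (0 : Fin n) ≠ j), f 0 j h 1 = 1 := fun j h => by
    apply rx_injective 0 j h; rw [← hf, hone]
  let j₁ : Fin n := ⟨1, by omega⟩
  have hj₁ : (0 : Fin n) ≠ j₁ := by
    intro h; have := congrArg Fin.val h; simp [j₁] at this
  let σ₀ := f 0 j₁ hj₁
  have hjk : ∀ j k (h0j : (0 : Fin n) ≠ j) (h0k : (0 : Fin n) ≠ k) (h : j ≠ k) (t : F),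
      f j k h t = f 0 k h0k t ∧ f 0 k h0k t = f 0 j h0j t := by
    intro j k h0j h0k h t
    have e1 := hmul 0 j k h0j h h0k 1 t
    rw [one_mul, h01, one_mul] at e1
    have e2 := hmul 0 j k h0j h h0k t 1
    rw [mul_one] at e2
    have e3 := hmul 0 j k h0j h h0k 1 1
    rw [one_mul, h01, h01, one_mul] at e3
    rw [← e3, mul_one] at e2
    exact ⟨e1.symm, e2⟩
  have h0 : ∀ k (h : (0 : Fin n) ≠ k) (t : F), f 0 k h t = σ₀ t := by
    intro k h t
    by_cases hk : k = j₁
    · subst hk; rfl
    · exact (hjk j₁ k hj₁ h (Ne.symm hk) t).2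
  obtain ⟨j₂, hj₂0, hj₂1⟩ : ∃ j₂ : Fin n, (0 : Fin n) ≠ j₂ ∧ j₁ ≠ j₂ := by
    refine ⟨⟨2, by omega⟩, ?_, ?_⟩ <;>
      · intro h; have := congrArg Fin.val h; simp [j₁] at this
  have hσmul : ∀ s t, σ₀ (s * t) = σ₀ s * σ₀ t := by
    intro s t
    have := hmul 0 j₁ j₂ hj₁ hj₂1 hj₂0 s t
    rw [(hjk j₁ j₂ hj₁ hj₂0 hj₂1 t).1, h0 j₂ hj₂0 (s * t), h0 j₂ hj₂0 t] at this
    exact this
  have hbij : Function.Bijective σ₀ := Finite.injective_iff_bijective.mp (hfi 0 j₁ hj₁)
  let σ : F ≃+* F :=
    { Equiv.ofBijective σ₀ hbij with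
      map_mul' := hσmul
      map_add' := map_add σ₀ }
  refine ⟨σ, fun i j h t => ?_⟩
  rw [hf]
  congr 1
  show f i j h t = σ₀ t
  by_cases hi : i = 0
  · subst hi; exact h0 j h t
  by_cases hj : j = 0
  · subst hj
    obtain ⟨k, hk0, hki⟩ : ∃ k : Fin n, (0 : Fin n) ≠ k ∧ i ≠ k := by
      by_cases h1 : i = j₁
      · exact ⟨j₂, hj₂0, h1 ▸ hj₂1⟩
      · exact ⟨j₁, hj₁, h1⟩
    have e1 := hmul i 0 k h hk0 hki t 1
    rw [mul_one, h01, mul_one, (hjk i k (Ne.symm hi) hk0 hki t).1, h0] at e1
    exact e1.symm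
  · exact ((hjk i j (Ne.symm hi) (Ne.symm hj) h t).1).trans (h0 j _ t)

theorem isSemi_field_of_coord {α : MulAut (Matrix.ProjectiveSpecialLinearGroup (Fin n) F)}
    {σ : F ≃+* F} (h : ∀ i j (hij : i ≠ j) t, α (rx i j hij t) = rx i j hij (σ t)) :
    IsSemi 1 σ α := by
  obtain ⟨β, hβ⟩ := exists_induced (S := Matrix.SpecialLinearGroup (Fin n) F) rho_injective
    (normalises_psl 1 σ)
  have : α = β := aut_ext fun i j hij t => by
    rw [h, semi_diag_rx (d := fun _ => 1) (by simp) hβ i j hij t]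
    simp
  rwa [this]

theorem isSemi_of_fix [NeZero n] (hn : 2 ≤ n) (α : MulAut (Matrix.ProjectiveSpecialLinearGroup (Fin n) F))
    (hfix : ∀ i j : Fin n, i ≠ j → img α (root (e i) (e j)) = root (e i) (e j))
    (hfield : ∀ α' : MulAut (Matrix.ProjectiveSpecialLinearGroup (Fin n) F),
      (∀ i j : Fin n, i ≠ j → img α' (root (e i) (e j)) = root (e i) (e j)) →
      (∀ j, ∀ h : (0 : Fin n) ≠ j, α' (rx 0 j h 1) = rx 0 j h (1 : F)) →
      ∃ σ : F ≃+* F, ∀ i j (h : i ≠ j) t, α' (rx i j h t) = rx i j h (σ t)) :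
    ∃ (g : GL (Fin n) F) (σ : F ≃+* F), IsSemi g σ α := by
  classical
  choose f hfi hf using exists_coord α hfix
  have hne : ∀ j (h : (0 : Fin n) ≠ j), f 0 j h 1 ≠ 0 := fun j h hz =>
    one_ne_zero (hfi 0 j h (hz.trans (map_zero _).symm))
  let d : Fin n → Fˣ := fun j => if h : (0 : Fin n) ≠ j then Units.mk0 _ (hne j h) else 1
  let D : GL (Fin n) F := Matrix.GeneralLinearGroup.mk'' (Matrix.diagonal fun i => (d i : F)) (by
    rw [Matrix.det_diagonal]; exact IsUnit.prod_univ_iff.mpr fun i => (d i).isUnit)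
  obtain ⟨δ, hδ⟩ := exists_induced (S := Matrix.SpecialLinearGroup (Fin n) F) rho_injective
    (normalises_psl D 1)
  have hδx : ∀ i j (h : i ≠ j) (t : F), δ (rx i j h t) = rx i j h ((d i : F) * t * (d j : F)⁻¹) :=
    fun i j h t => semi_diag_rx (σ := 1) rfl hδ i j h t
  have hfix' : ∀ i j : Fin n, i ≠ j → img (δ * α) (root (e i) (e j)) = root (e i) (e j) := by
    intro i j h
    rw [← img_img, hfix i j h]
    ext x
    rw [Subgroup.mem_map]
    constructor
    · rintro ⟨y, hy, rfl⟩
      obtain ⟨t, rfl⟩ := (mem_root_e_iff h).mp hy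
      exact (mem_root_e_iff h).mpr ⟨_, hδx i j h t⟩
    · intro hx
      obtain ⟨t, rfl⟩ := (mem_root_e_iff h).mp hx
      refine ⟨_, rx_mem i j h ((d i : F)⁻¹ * t * d j), ?_⟩
      rw [MulEquiv.coe_toMonoidHom, hδx]
      congr 1
      have := (d i).ne_zero
      have := (d j).ne_zero
      field_simp
  obtain ⟨σ, hσ⟩ := hfield (δ * α) hfix' (fun j h => by
    rw [MulAut.mul_apply, hf, hδx]
    congr 1
    simp only [d, dif_pos h, Units.val_mk0, ne_eq, not_true_eq_false, dite_false, Units.val_one, one_mul]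
    exact mul_inv_cancel₀ (hne j h))
  have h1 := isSemi_field_of_coord hσ
  have hinv := hδ.inverse rho_injective (normalises_psl D 1)
  have h2 := Induced.comp (normalises_psl _ _) hinv h1
  rw [inv_mul_cancel_left] at h2
  exact ⟨_, _, h2⟩

/-! ### The rank one case -/

theorem par_of_dot_eq_zero_two {a b b' : Fin 2 → F} (h : RootPair a b) (h' : RootPair a b') :
    Par b b' := by
  have e1 : b 0 * a 0 + b 1 * a 1 = 0 := by simpa [dotProduct, Fin.sum_univ_two] using h.dot
  have e2 : b' 0 * a 0 + b' 1 * a 1 = 0 := by simpa [dotProduct, Fin.sum_univ_two] using h'.dot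
  have hdet : b 0 * b' 1 - b 1 * b' 0 = 0 := by
    by_cases ha : a 0 = 0
    · have ha1 : a 1 ≠ 0 := by
        intro h1; apply h.fst_ne; funext i; fin_cases i <;> assumption
      have hb1 : b 1 = 0 := by simpa [ha, ha1] using e1
      have hb1' : b' 1 = 0 := by simpa [ha, ha1] using e2
      rw [hb1, hb1']; ring
    · exact (mul_eq_zero.mp (show a 0 * (b 0 * b' 1 - b 1 * b' 0) = 0 by
        linear_combination b' 1 * e1 - b 1 * e2)).resolve_left ha
  obtain ⟨i, hi⟩ := Function.ne_iff.mp h.snd_ne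
  simp only [Pi.zero_apply] at hi
  have hall : ∀ k, b' k * b i = b' i * b k := by
    intro k; fin_cases k <;> fin_cases i <;> simp <;>
      first | linear_combination hdet | linear_combination (-1 : F) * hdet
  have hne : b' i ≠ 0 := by
    intro hz; apply h'.snd_ne; funext k
    have := hall k
    rw [hz, zero_mul, mul_eq_zero] at this
    exact this.resolve_right hi
  refine ⟨b' i / b i, div_ne_zero hne hi, ?_⟩
  funext k
  rw [Pi.smul_apply, smul_eq_mul, div_mul_eq_mul_div, eq_div_iff hi]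
  linear_combination hall k

theorem root_eq_of_par_two {a b a' b' : Fin 2 → F} (h : RootPair a b) (h' : RootPair a' b')
    (hp : Par a a') : root a b = root a' b' :=
  (root_eq_iff h h').mpr ⟨hp, par_of_dot_eq_zero_two h ⟨h.fst_ne, h'.snd_ne, hp.symm.dot_eq_zero h'.dot⟩⟩

theorem conj_isSemi (s : Matrix.SpecialLinearGroup (Fin n) F) :
    IsSemi (rho n F s) 1 (MulAut.conj (QuotientGroup.mk s :
      Matrix.ProjectiveSpecialLinearGroup (Fin n) F)) := by
  intro t t' ht
  have : t' = s * t * s⁻¹ := by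
    apply rho_injective
    rw [ht, act_apply, fieldMap_one, map_mul, map_mul, map_inv]
  rw [this]
  rfl

theorem e_two_ne : ((0 : Fin 2) ≠ 1) ∧ ((1 : Fin 2) ≠ 0) := by decide

/-- `x(t) y(u) x(t)`. -/
def ww (t u : F) : Matrix.SpecialLinearGroup (Fin 2) F :=
  Matrix.SpecialLinearGroup.transvection (show (0 : Fin 2) ≠ 1 by decide) t *
    Matrix.SpecialLinearGroup.transvection (show (1 : Fin 2) ≠ 0 by decide) u *
      Matrix.SpecialLinearGroup.transvection (show (0 : Fin 2) ≠ 1 by decide) t

theorem ww_coe (t u : F) :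
    (ww t u : Matrix (Fin 2) (Fin 2) F) = !![1 + t * u, t + (1 + t * u) * t; u, u * t + 1] := by
  rw [ww, Matrix.SpecialLinearGroup.coe_mul, Matrix.SpecialLinearGroup.coe_mul,
    Matrix.SpecialLinearGroup.transvection_coe, Matrix.SpecialLinearGroup.transvection_coe]
  ext i j
  fin_cases i <;> fin_cases j <;>
    simp [Matrix.mul_apply, Fin.sum_univ_two, Matrix.single_apply, Matrix.one_apply] <;> ring

theorem swap_iff (t u : F) :
    img (MulAut.conj (QuotientGroup.mk (ww t u) : Matrix.ProjectiveSpecialLinearGroup (Fin 2) F))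
      (root (e 0) (e 1)) = root (e 1) (e 0) ↔ t * u = -1 := by
  have h01 : RootPair (F := F) (e (0 : Fin 2)) (e 1) :=
    ⟨fun h => by simp [e] at h, fun h => by simp [e] at h, dot_e (by decide)⟩
  have h10 : RootPair (F := F) (e (1 : Fin 2)) (e 0) :=
    ⟨fun h => by simp [e] at h, fun h => by simp [e] at h, dot_e (by decide)⟩
  have hme : ((rho 2 F (ww t u) : GL (Fin 2) F) : Matrix (Fin 2) (Fin 2) F) *ᵥ e 0 = ![1 + t * u, u] := by
    rw [rho_coe, mulVec_single_one, ww_coe]
    funext i; fin_cases i <;> simp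
  rw [img, root_map_conjGL (conj_isSemi _) h01.dot]
  constructor
  · intro he
    obtain ⟨⟨c, hc, hp⟩, -⟩ := (root_eq_iff (h01.semi _ 1) h10).mp he
    change e 1 = c • (((rho 2 F (ww t u) : GL (Fin 2) F) : Matrix (Fin 2) (Fin 2) F) *ᵥ e 0) at hp
    rw [hme] at hp
    have := congrFun hp 0
    simp [e, hc] at this
    linear_combination this
  · intro h
    refine root_eq_of_par_two (h01.semi _ 1) h10 ?_
    show Par (((rho 2 F (ww t u) : GL (Fin 2) F) : Matrix (Fin 2) (Fin 2) F) *ᵥ e 0) (e 1)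
    rw [hme, show 1 + t * u = 0 by rw [h]; ring]
    have hu : u ≠ 0 := fun hz => by rw [hz, mul_zero] at h; simp at h
    refine ⟨u⁻¹, inv_ne_zero hu, ?_⟩
    funext i; fin_cases i <;> simp [e, hu]

theorem exists_field_two (α : MulAut (Matrix.ProjectiveSpecialLinearGroup (Fin 2) F))
    (hfix : ∀ i j : Fin 2, i ≠ j → img α (root (e i) (e j)) = root (e i) (e j))
    (hone : ∀ j, ∀ h : (0 : Fin 2) ≠ j, α (rx 0 j h 1) = rx 0 j h (1 : F)) :
    ∃ σ : F ≃+* F, ∀ i j (h : i ≠ j) t, α (rx i j h t) = rx i j h (σ t) := by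
  classical
  have h0 : (0 : Fin 2) ≠ 1 := by decide
  have h1 : (1 : Fin 2) ≠ 0 := by decide
  obtain ⟨f, hfi, hf⟩ := exists_coord α hfix 0 1 h0
  obtain ⟨g, -, hg⟩ := exists_coord α hfix 1 0 h1
  have hf1 : f 1 = 1 := rx_injective 0 1 h0 (by rw [← hf, hone])
  have hw : ∀ t u, α (QuotientGroup.mk (ww t u)) =
      (QuotientGroup.mk (ww (f t) (g u)) : Matrix.ProjectiveSpecialLinearGroup (Fin 2) F) := by
    intro t u
    show α (piPSL _ _ (ww t u)) = piPSL _ _ (ww (f t) (g u))
    simp only [ww, map_mul]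
    exact congrArg₂ (· * ·) (congrArg₂ (· * ·) (hf t) (hg u)) (hf t)
  have hconj : ∀ (w : Matrix.ProjectiveSpecialLinearGroup (Fin 2) F)
      (R : Subgroup (Matrix.ProjectiveSpecialLinearGroup (Fin 2) F)),
      img α (img (MulAut.conj w) R) = img (MulAut.conj (α w)) (img α R) := by
    intro w R
    rw [img_img, img_img]
    congr 1
    apply MulEquiv.ext
    intro x
    simp [MulAut.mul_apply, MulAut.conj_apply]
  have hrel : ∀ t u, t * u = -1 → f t * g u = -1 := by
    intro t u h
    rw [← swap_iff]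
    have := hconj (QuotientGroup.mk (ww t u)) (root (e 0) (e 1))
    rw [(swap_iff t u).mpr h, hfix 1 0 h1, hfix 0 1 h0, hw] at this
    exact this.symm
  have hg1 : g (-1) = -1 := by
    have := hrel 1 (-1) (by ring)
    rwa [hf1, one_mul] at this
  have hyx : ∀ t : F, MulAut.conj (QuotientGroup.mk (ww 1 (-1)) : Matrix.ProjectiveSpecialLinearGroup (Fin 2) F)
      (rx 0 1 h0 t) = rx 1 0 h1 (-t) := by
    intro t
    refine conj_isSemi _ _ _ (eq_mul_inv_of_mul_eq ?_)
    apply Units.ext
    rw [Units.val_mul, Units.val_mul, fieldMap_one, rho_coe, rho_coe, rho_coe,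
      Matrix.SpecialLinearGroup.transvection_coe, Matrix.SpecialLinearGroup.transvection_coe, ww_coe]
    ext i j
    fin_cases i <;> fin_cases j <;>
      simp [Matrix.mul_apply, Fin.sum_univ_two, Matrix.single_apply, Matrix.one_apply]
  have hfg : ∀ t, g t = f t := by
    intro t
    have h2 : g (-t) = -(f t) := rx_injective 1 0 h1 (by
      rw [← hg, ← hyx, ← hyx]
      simp only [MulAut.conj_apply, map_mul, map_inv]
      rw [hw, hf, hf1, hg1])
    rw [map_neg, neg_inj] at h2
    exact h2
  have hinv : ∀ t, f t⁻¹ = (f t)⁻¹ := by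
    intro t
    by_cases ht : t = 0
    · simp [ht]
    have h := hrel t (-t⁻¹) (by field_simp)
    rw [hfg, map_neg, mul_neg, neg_inj] at h
    exact eq_inv_of_mul_eq_one_right h
  let σ : F ≃+* F :=
    { Equiv.ofBijective f (Finite.injective_iff_bijective.mp hfi) with
      map_mul' := hua f hfi hf1 hinv
      map_add' := map_add f }
  refine ⟨σ, fun i j h t => ?_⟩
  fin_cases i <;> fin_cases j
  · exact absurd rfl h
  · exact hf t
  · exact (hg t).trans (congrArg _ (hfg t))
  · exact absurd rfl h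

end Cfsg.Agent.AutPSL
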