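import Mathlib
import Cfsg.Agent.AutPSL.Field

/-!
The automorphism group of `PSL_n(q)`: `exists_semi`, and the kernel of the semilinear action
(helper60).
-/

set_option autoImplicit false

namespace Cfsg.Agent.AutPSL

open Matrix

universe u

variable {n : ℕ} {F : Type u} [Field F]

/-- Inverse transpose on `GL`. -/
def itGL : GL (Fin n) F →* GL (Fin n) F where
  toFun g := ⟨((g⁻¹ : GL (Fin n) F) : Matrix (Fin n) (Fin n) F)ᵀ, (g : Matrix (Fin n) (Fin n) F)ᵀ,
    by rw [← Matrix.transpose_mul, ← Units.val_mul, mul_inv_cancel, Units.val_one, Matrix.transpose_one],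
    by rw [← Matrix.transpose_mul, ← Units.val_mul, inv_mul_cancel, Units.val_one, Matrix.transpose_one]⟩
  map_one' := Units.ext (by simp)
  map_mul' g h := Units.ext (by
    show (((g * h)⁻¹ : GL (Fin n) F) : Matrix (Fin n) (Fin n) F)ᵀ =
      ((g⁻¹ : GL (Fin n) F) : Matrix (Fin n) (Fin n) F)ᵀ * ((h⁻¹ : GL (Fin n) F) : Matrix (Fin n) (Fin n) F)ᵀ
    rw [_root_.mul_inv_rev, Units.val_mul, Matrix.transpose_mul])

theorem itGL_coe (g : GL (Fin n) F) :
    ((itGL g : GL (Fin n) F) : Matrix (Fin n) (Fin n) F) =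
      ((g⁻¹ : GL (Fin n) F) : Matrix (Fin n) (Fin n) F)ᵀ := rfl

theorem itGL_itGL (g : GL (Fin n) F) : itGL (itGL g) = g := by
  apply Units.ext
  rw [itGL_coe, ← map_inv, itGL_coe, inv_inv, Matrix.transpose_transpose]

theorem itGL_fieldMap (σ : F ≃+* F) (g : GL (Fin n) F) :
    itGL (fieldMap σ g) = fieldMap σ (itGL g) := by
  apply Units.ext
  rw [itGL_coe, ← map_inv, fieldMap_coe, fieldMap_coe, itGL_coe, Matrix.transpose_map]

theorem rho_itSL (s : Matrix.SpecialLinearGroup (Fin n) F) :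
    rho n F (itSL s) = itGL (rho n F s) := by
  apply Units.ext
  rw [rho_coe, itSL_coe, itGL_coe, ← map_inv, rho_coe]

theorem IsSemi.it_conj {g : GL (Fin n) F} {σ : F ≃+* F}
    {β : MulAut (Matrix.ProjectiveSpecialLinearGroup (Fin n) F)} (h : IsSemi g σ β) :
    IsSemi (itGL g) σ (itAut n F * β * itAut n F) := by
  intro s s' hs
  rw [MulAut.mul_apply, MulAut.mul_apply, itAut_mk, h (itSL s) (itSL s') ?_, itAut_mk, itSL_involutive]
  rw [rho_itSL, rho_itSL, hs, act_apply, map_mul, map_mul, map_inv, itGL_itGL, itGL_fieldMap,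
    act_apply]

theorem scalar_semi {g : GL (Fin n) F} {c : F} (hg : (g : Matrix (Fin n) (Fin n) F) = c • 1) :
    IsSemi g 1 1 := by
  intro s s' hs
  have : s' = s := by
    apply rho_injective
    rw [hs, act_apply, fieldMap_one, mul_inv_eq_iff_eq_mul]
    apply Units.ext
    rw [Units.val_mul, Units.val_mul, hg, Matrix.smul_mul, Matrix.mul_smul, Matrix.one_mul,
      Matrix.mul_one]
  rw [this]; rfl

variable [Fintype F]

/-- Every automorphism of `PSL_n(q)` is semilinear, or semilinear times inverse transpose. -/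
theorem exists_semi (hn : 2 ≤ n) (α : MulAut (Matrix.ProjectiveSpecialLinearGroup (Fin n) F)) :
    ∃ (g : GL (Fin n) F) (σ : F ≃+* F) (β : MulAut (Matrix.ProjectiveSpecialLinearGroup (Fin n) F)),
      IsSemi g σ β ∧ (α = β ∨ (3 ≤ n ∧ α = β * itAut n F)) := by
  classical
  haveI : NeZero n := ⟨by omega⟩
  -- composing with a projectivity so that the frame is fixed gives a semilinear map
  have finish : ∀ α' : MulAut (Matrix.ProjectiveSpecialLinearGroup (Fin n) F),
      (∃ g : GL (Fin n) F, ∀ β : MulAut (Matrix.ProjectiveSpecialLinearGroup (Fin n) F),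
        IsSemi g 1 β → ∀ i j : Fin n, i ≠ j → img α' (root (e i) (e j)) = img β (root (e i) (e j))) →
      ∃ (g : GL (Fin n) F) (σ : F ≃+* F), IsSemi g σ α' := by
    rintro α' ⟨g, hg⟩
    obtain ⟨β, hβ⟩ := exists_induced (S := Matrix.SpecialLinearGroup (Fin n) F) rho_injective
      (normalises_psl g 1)
    have hfix : ∀ i j : Fin n, i ≠ j → img (β⁻¹ * α') (root (e i) (e j)) = root (e i) (e j) := by
      intro i j h
      rw [← img_img, hg β hβ i j h, img_img, inv_mul_cancel, img_one]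
    have hfield : ∀ α'' : MulAut (Matrix.ProjectiveSpecialLinearGroup (Fin n) F),
        (∀ i j : Fin n, i ≠ j → img α'' (root (e i) (e j)) = root (e i) (e j)) →
        (∀ j, ∀ h : (0 : Fin n) ≠ j, α'' (rx 0 j h 1) = rx 0 j h (1 : F)) →
        ∃ σ : F ≃+* F, ∀ i j (h : i ≠ j) t, α'' (rx i j h t) = rx i j h (σ t) := by
      intro α'' h1 h2
      by_cases h3 : 3 ≤ n
      · exact exists_field_of_normalised h3 α'' h1 h2
      · obtain rfl : n = 2 := by omega
        exact exists_field_two α'' h1 h2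
    obtain ⟨g', σ, hα⟩ := isSemi_of_fix hn _ hfix hfield
    have := Induced.comp (normalises_psl _ _) hβ hα
    rw [mul_inv_cancel_left] at this
    exact ⟨_, _, this⟩
  by_cases h3 : 3 ≤ n
  · rcases preserves_or h3 α with h | h
    · obtain ⟨g, σ, hg⟩ := finish α (h.fix_frame h3)
      exact ⟨g, σ, α, hg, Or.inl rfl⟩
    · obtain ⟨g, σ, hg⟩ := finish _ (h.fix_frame h3)
      refine ⟨_, σ, itAut n F * (itAut n F * α) * itAut n F, hg.it_conj, Or.inr ⟨h3, ?_⟩⟩
      rw [← mul_assoc (itAut n F) (itAut n F) α, itAut_mul_self, one_mul, mul_assoc, itAut_mul_self,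
        mul_one]
  · obtain rfl : n = 2 := by omega
    -- rank one: the two coordinate root subgroups go to root subgroups with independent points
    have h01 : RootPair (F := F) (e (0 : Fin 2)) (e 1) :=
      ⟨fun h => by simp [e] at h, fun h => by simp [e] at h, dot_e e_two_ne.1⟩
    have h10 : RootPair (F := F) (e (1 : Fin 2)) (e 0) :=
      ⟨fun h => by simp [e] at h, fun h => by simp [e] at h, dot_e e_two_ne.2⟩
    obtain ⟨a, b, hab, e1⟩ := IsRoot.map le_rfl ⟨_, _, h01, rfl⟩ α
    obtain ⟨a', b', hab', e2⟩ := IsRoot.map le_rfl ⟨_, _, h10, rfl⟩ α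
    have hne : root (e (0 : Fin 2)) (e 1) ≠ root (F := F) (e 1) (e 0) := by
      intro h
      obtain ⟨⟨c, -, hc⟩, -⟩ := (root_eq_iff h01 h10).mp h
      have := congrFun hc 1
      simp [e] at this
    have hpar : ¬ Par a a' := fun hp => hne (img_injective α
      (e1.trans ((root_eq_of_par_two hab hab' hp).trans e2.symm)))
    let A : Matrix (Fin 2) (Fin 2) F := Matrix.of fun k i => (![a, a'] i) k
    have hA : IsUnit A.det := by
      refine isUnit_iff_ne_zero.mpr fun hz => ?_
      obtain ⟨v, hv0, hv⟩ := Matrix.exists_mulVec_eq_zero_iff.mpr hz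
      have : v 0 • a + v 1 • a' = 0 := by
        funext k
        have := congrFun hv k
        simp only [Pi.zero_apply, mulVec, dotProduct, Fin.sum_univ_two, A, Matrix.of_apply] at this
        simp only [Pi.add_apply, Pi.smul_apply, smul_eq_mul, Pi.zero_apply]
        simp at this
        linear_combination this
      obtain ⟨x, y⟩ := par_or_indep hab.fst_ne hab'.fst_ne hpar this
      exact hv0 (funext fun i => by fin_cases i <;> assumption)
    obtain ⟨g, σ, hg⟩ := finish α ⟨Matrix.GeneralLinearGroup.mk'' A hA, fun β hβ i j hij => by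
      rw [show img β (root (e i) (e j)) = _ from root_map_conjGL hβ (dot_e hij)]
      fin_cases i <;> fin_cases j
      · exact absurd rfl hij
      · refine e1.trans (root_eq_of_par_two hab (h01.semi _ 1) ⟨1, one_ne_zero, ?_⟩)
        funext k
        show (A *ᵥ (e 0)) k = ((1 : F) • a) k
        rw [one_smul, mulVec_single_one]
        rfl
      · refine e2.trans (root_eq_of_par_two hab' (h10.semi _ 1) ⟨1, one_ne_zero, ?_⟩)
        funext k
        show (A *ᵥ (e 1)) k = ((1 : F) • a') k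
        rw [one_smul, mulVec_single_one]
        rfl
      · exact absurd rfl hij⟩
    exact ⟨g, σ, α, hg, Or.inl rfl⟩

omit [Fintype F] in
/-- The semilinear action on `PSL_n` (`n ≥ 2`) has only the scalars in its kernel. -/
theorem IsSemi.eq_one (hn : 2 ≤ n) {g : GL (Fin n) F} {σ : F ≃+* F} (h : IsSemi g σ 1) :
    σ = 1 ∧ ∃ c : F, c ≠ 0 ∧ (g : Matrix (Fin n) (Fin n) F) = c • 1 := by
  classical
  haveI : NeZero n := ⟨by omega⟩
  have hne : ∀ i, (e i : Fin n → F) ≠ 0 := fun i h => by simp [e] at h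
  have hex : ∀ i : Fin n, ∃ j, i ≠ j := by
    intro i
    haveI : Nontrivial (Fin n) := Fin.nontrivial_iff_two_le.mpr hn
    obtain ⟨j, hj⟩ := exists_ne i
    exact ⟨j, hj.symm⟩
  have hdiag : ∀ i k, k ≠ i → (g : Matrix (Fin n) (Fin n) F) k i = 0 := by
    intro i k hk
    obtain ⟨j, hij⟩ := hex i
    have hp : RootPair (F := F) (e i) (e j) := ⟨hne i, hne j, dot_e hij⟩
    have he := root_map_semi h hp.dot
    rw [show (root (e i) (e j)).map (1 : MulAut (Matrix.ProjectiveSpecialLinearGroup (Fin n) F)).toMonoidHom =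
      root (e i) (e j) from Subgroup.map_id _] at he
    obtain ⟨⟨c, hc, hcol⟩, -⟩ := (root_eq_iff hp (hp.semi g σ)).mp he
    have hsi : ⇑σ ∘ (e i : Fin n → F) = e i := by
      funext x; by_cases hx : x = i <;> simp [e, hx]
    rw [hsi, mulVec_single_one] at hcol
    have := congrFun hcol k
    simpa [e, hk] using this
  have hgd : ∀ i, (g : Matrix (Fin n) (Fin n) F) i i ≠ 0 := by
    intro i hz
    apply hne i
    refine (Matrix.mulVec_injective_iff_isUnit.mpr g.isUnit) ?_
    rw [mulVec_zero, mulVec_single_one]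
    funext k
    by_cases hk : k = i
    · subst hk; exact hz
    · exact hdiag i k hk
  let d : Fin n → Fˣ := fun i => Units.mk0 _ (hgd i)
  have hg : (g : Matrix (Fin n) (Fin n) F) = Matrix.diagonal fun i => (d i : F) := by
    ext k i
    by_cases hk : k = i
    · subst hk; rw [Matrix.diagonal_apply_eq]; rfl
    · rw [Matrix.diagonal_apply_ne _ hk, hdiag i k hk]
  have key : ∀ i j, i ≠ j → ∀ t : F, t = (d i : F) * σ t * (d j : F)⁻¹ := fun i j hij t =>
    rx_injective i j hij ((semi_diag_rx hg h i j hij t) : _)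
  have heq : ∀ i j, (d i : F) = d j := by
    intro i j
    by_cases hij : i = j
    · rw [hij]
    · have := key i j hij 1
      rw [map_one, mul_one, eq_comm, mul_inv_eq_one₀ (d j).ne_zero] at this
      exact this
  obtain ⟨j, hj⟩ := hex 0
  refine ⟨?_, (d 0 : F), (d 0).ne_zero, ?_⟩
  · ext t
    have := key 0 j hj t
    rw [heq 0 j, mul_comm (d j : F), mul_inv_cancel_right₀ (d j).ne_zero] at this
    exact this.symm
  · rw [hg, Matrix.smul_one_eq_diagonal]
    congr 1; funext i; exact heq i 0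

theorem IsSemi.unique (hn : 2 ≤ n) {g h : GL (Fin n) F} {σ τ : F ≃+* F}
    {β : MulAut (Matrix.ProjectiveSpecialLinearGroup (Fin n) F)} (hg : IsSemi g σ β)
    (hh : IsSemi h τ β) :
    σ = τ ∧ ∃ c : F, c ≠ 0 ∧ (g : Matrix (Fin n) (Fin n) F) = c • (h : Matrix (Fin n) (Fin n) F) := by
  have h1 := hh.inverse rho_injective (normalises_psl h τ)
  have h2 := Induced.comp (normalises_psl _ _) hg h1
  rw [mul_inv_cancel] at h2
  obtain ⟨hs, c, hc, hgc⟩ := IsSemi.eq_one hn h2
  have hστ : σ = τ := by rwa [mul_inv_eq_one] at hs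
  refine ⟨hστ, c, hc, ?_⟩
  rw [hστ, fieldMap_apply_inv, Units.val_mul] at hgc
  have := congrArg (fun M => M * (h : Matrix (Fin n) (Fin n) F)) hgc
  simp only [Matrix.smul_mul, Matrix.one_mul] at this
  rw [Matrix.mul_assoc, ← Units.val_mul h⁻¹ h, inv_mul_cancel, Units.val_one, Matrix.mul_one] at this
  exact this

omit [Fintype F] in
theorem itAut_not_semi (hn : 3 ≤ n) (g : GL (Fin n) F) (σ : F ≃+* F) :
    ¬ IsSemi g σ (itAut n F) := by
  intro h
  haveI : NeZero n := ⟨by omega⟩
  have hne : ∀ i, (e i : Fin n → F) ≠ 0 := fun i h => by simp [e] at h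
  have key : ∀ j : Fin n, 0 ≠ j → Par ((g : Matrix (Fin n) (Fin n) F) *ᵥ (⇑σ ∘ e 0)) (e j) := by
    intro j hj
    have hp : RootPair (F := F) (e 0) (e j) := ⟨hne _, hne _, dot_e hj⟩
    have hp' : RootPair (F := F) (e j) (e 0) := ⟨hne _, hne _, dot_e hj.symm⟩
    have he := root_map_semi h hp.dot
    rw [root_map_it hp.dot] at he
    exact ((root_eq_iff hp' (hp.semi g σ)).mp he).1.symm
  let j1 : Fin n := ⟨1, by omega⟩
  let j2 : Fin n := ⟨2, by omega⟩
  have h1 : (0 : Fin n) ≠ j1 := fun h => by have := congrArg Fin.val h; simp [j1] at this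
  have h2 : (0 : Fin n) ≠ j2 := fun h => by have := congrArg Fin.val h; simp [j2] at this
  obtain ⟨c, -, hc⟩ := (key j1 h1).symm.trans (key j2 h2)
  have h12 : j2 ≠ j1 := fun h => by have := congrArg Fin.val h; simp [j1, j2] at this
  have := congrFun hc j2
  simp [e, h12] at this

theorem semi_not_eq_mul_it (hn : 3 ≤ n) {g h : GL (Fin n) F} {σ τ : F ≃+* F}
    {β γ : MulAut (Matrix.ProjectiveSpecialLinearGroup (Fin n) F)} (hβ : IsSemi g σ β)
    (hγ : IsSemi h τ γ) : β ≠ γ * itAut n F := by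
  intro he
  have h1 := hγ.inverse rho_injective (normalises_psl h τ)
  have h2 := Induced.comp (normalises_psl g σ) h1 hβ
  rw [he, inv_mul_cancel_left] at h2
  exact itAut_not_semi hn _ _ h2

theorem mem_gammaPSL_iff (β : MulAut (Matrix.ProjectiveSpecialLinearGroup (Fin n) F)) :
    β ∈ Cfsg.gammaPSL n F ↔ ∃ (g : GL (Fin n) F) (σ : F ≃+* F), IsSemi g σ β := by
  refine (mem_autSubgroupOf_iff ⟨1, 1, (isSemi_iff _ _ _).mp (induced_one' rho_injective)⟩ ?_ ?_ β).trans
    ⟨fun ⟨g, σ, h⟩ => ⟨g, σ, (isSemi_iff _ _ _).mpr h⟩, fun ⟨g, σ, h⟩ => ⟨g, σ, (isSemi_iff _ _ _).mp h⟩⟩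
  · rintro β γ ⟨g, σ, hg⟩ ⟨h, τ, hh⟩
    exact ⟨_, _, (isSemi_iff _ _ _).mp (Induced.comp (normalises_psl h τ)
      ((isSemi_iff _ _ _).mpr hg) ((isSemi_iff _ _ _).mpr hh))⟩
  · rintro β ⟨g, σ, hg⟩
    exact ⟨_, _, (isSemi_iff _ _ _).mp
      (((isSemi_iff _ _ _).mpr hg).inverse rho_injective (normalises_psl g σ))⟩

theorem mem_inndiagPSL_iff (β : MulAut (Matrix.ProjectiveSpecialLinearGroup (Fin n) F)) :
    β ∈ Cfsg.inndiagPSL n F ↔ ∃ g : GL (Fin n) F, IsSemi g 1 β := by
  refine (mem_autSubgroupOf_iff (P := fun γ => Cfsg.IsInnerDiagonalAutPSL γ)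
    ((isInnerDiagonal_iff _).mpr ⟨1, induced_one' rho_injective⟩) ?_ ?_ β).trans (isInnerDiagonal_iff β)
  · intro β γ hβ hγ
    obtain ⟨g, hg⟩ := (isInnerDiagonal_iff _).mp hβ
    obtain ⟨h, hh⟩ := (isInnerDiagonal_iff _).mp hγ
    have := Induced.comp (normalises_psl h 1) hg hh
    rw [one_mul] at this
    exact (isInnerDiagonal_iff _).mpr ⟨_, this⟩
  · intro β hβ
    obtain ⟨g, hg⟩ := (isInnerDiagonal_iff _).mp hβ
    have := Induced.inverse rho_injective (normalises_psl g 1) hg
    rw [inv_one] at this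
    exact (isInnerDiagonal_iff _).mpr ⟨_, this⟩

end Cfsg.Agent.AutPSL
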