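import Mathlib
import Cfsg.Agent.AutPSL.Main
import Cfsg.Agent.AutPSL.Descent

/-!
Elements of prime order in field and graph-field cosets of `PGL_n(q)` (helper60).
-/

set_option autoImplicit false

namespace Cfsg.Agent.AutPSL

open Matrix

universe u

variable {n : ℕ} {F : Type u} [Field F]

theorem IsSemi.pow {g : GL (Fin n) F} {σ : F ≃+* F}
    {β : MulAut (Matrix.ProjectiveSpecialLinearGroup (Fin n) F)} (h : IsSemi g σ β) (k : ℕ) :
    IsSemi (normGL σ g k) (σ ^ k) (β ^ k) := by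
  induction k with
  | zero => rw [pow_zero, pow_zero]; exact induced_one' rho_injective
  | succ k ih =>
    rw [pow_succ', pow_succ']
    exact Induced.comp (normalises_psl _ _) h ih

theorem normGL_one (σ : F ≃+* F) (k : ℕ) : normGL σ (1 : GL (Fin n) F) k = 1 := by
  induction k with
  | zero => rfl
  | succ k ih => show 1 * fieldMap σ (normGL σ 1 k) = 1; rw [ih, map_one, one_mul]

variable [Fintype F]

theorem orderOf_stdField (hn : 2 ≤ n) {σ : F ≃+* F}
    {φ : MulAut (Matrix.ProjectiveSpecialLinearGroup (Fin n) F)} (h : IsSemi 1 σ φ) :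
    orderOf φ = orderOf σ := by
  apply Nat.dvd_antisymm <;> apply orderOf_dvd_of_pow_eq_one
  · have := h.pow (orderOf σ)
    rw [pow_orderOf_eq_one, normGL_one] at this
    exact Induced.ext normalises_one this (induced_one' rho_injective)
  · have := h.pow (orderOf φ)
    rw [pow_orderOf_eq_one] at this
    exact (IsSemi.eq_one hn this).1

theorem conj_inndiag_semi {g h : GL (Fin n) F} {σ : F ≃+* F}
    {α δ : MulAut (Matrix.ProjectiveSpecialLinearGroup (Fin n) F)} (hα : IsSemi g σ α)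
    (hδ : IsSemi h 1 δ) : ∃ k : GL (Fin n) F, IsSemi k 1 (α * δ * α⁻¹) := by
  have hi := Induced.inverse rho_injective (normalises_psl g σ) hα
  have h1 := Induced.comp (normalises_psl _ _) (Induced.comp (normalises_psl h 1) hα hδ) hi
  rw [mul_one, mul_inv_cancel] at h1
  exact ⟨_, h1⟩

theorem conj_inndiag (hn : 2 ≤ n) (α : MulAut (Matrix.ProjectiveSpecialLinearGroup (Fin n) F))
    {δ : MulAut (Matrix.ProjectiveSpecialLinearGroup (Fin n) F)} (hδ : δ ∈ Cfsg.inndiagPSL n F) :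
    α * δ * α⁻¹ ∈ Cfsg.inndiagPSL n F := by
  obtain ⟨h, hh⟩ := (mem_inndiagPSL_iff δ).mp hδ
  rw [mem_inndiagPSL_iff]
  obtain ⟨g, σ, β, hβ, hα⟩ := exists_semi hn α
  rcases hα with rfl | ⟨-, rfl⟩
  · exact conj_inndiag_semi hβ hh
  · have hinv : (itAut n F)⁻¹ = itAut n F := inv_eq_of_mul_eq_one_right itAut_mul_self
    obtain ⟨k, hk⟩ := conj_inndiag_semi hβ hh.it_conj
    refine ⟨k, ?_⟩
    rw [_root_.mul_inv_rev, hinv]
    simpa only [mul_assoc] using hk

theorem isConjUnder_conj_iff {X : Type*} [Group X] {H : Subgroup X} (hH : ∀ α : X, ∀ d ∈ H, α * d * α⁻¹ ∈ H)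
    (α x y : X) : Cfsg.IsConjUnder H x y ↔ Cfsg.IsConjUnder H (α * x * α⁻¹) (α * y * α⁻¹) := by
  constructor
  · rintro ⟨h, hh, rfl⟩
    exact ⟨_, hH α h hh, by group⟩
  · rintro ⟨h, hh, he⟩
    refine ⟨α⁻¹ * h * α, by simpa using hH α⁻¹ h hh, ?_⟩
    calc y = α⁻¹ * (α * y * α⁻¹) * α := by group
      _ = α⁻¹ * (h * (α * x * α⁻¹) * h⁻¹) * α := by rw [he]
      _ = _ := by group

theorem orderOf_conj' {X : Type*} [Group X] (α x : X) : orderOf (α * x * α⁻¹) = orderOf x := by
  rw [← MulAut.conj_apply]; exact MulEquiv.orderOf_eq (MulAut.conj α) x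

/-- Elements of order `r` in the coset of a standard field automorphism. -/
theorem field_coset (hn : 2 ≤ n) {σ : F ≃+* F}
    {φ : MulAut (Matrix.ProjectiveSpecialLinearGroup (Fin n) F)} (hφ : IsSemi 1 σ φ)
    {δ : MulAut (Matrix.ProjectiveSpecialLinearGroup (Fin n) F)} (hδ : δ ∈ Cfsg.inndiagPSL n F)
    (ho : orderOf (δ * φ) = orderOf φ) : Cfsg.IsConjUnder (Cfsg.inndiagPSL n F) φ (δ * φ) := by
  haveI : Nonempty (Fin n) := ⟨⟨0, by omega⟩⟩
  obtain ⟨g, hg⟩ := (mem_inndiagPSL_iff δ).mp hδ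
  have hgφ := Induced.comp (normalises_psl 1 σ) hg hφ
  rw [map_one, mul_one, one_mul] at hgφ
  set r := orderOf σ
  have hp := IsSemi.pow hgφ r
  rw [pow_orderOf_eq_one σ, show r = orderOf (δ * φ) from ((orderOf_stdField hn hφ).symm.trans ho.symm),
    pow_orderOf_eq_one] at hp
  rw [← show r = orderOf (δ * φ) from ((orderOf_stdField hn hφ).symm.trans ho.symm)] at hp
  obtain ⟨-, c, hc, hN⟩ := IsSemi.eq_one hn hp
  obtain ⟨u, -, hu⟩ := exists_scalarGL hc hN
  have hfix : σ (u : F) = u := by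
    have h1 := normGL_fixed σ g (pow_orderOf_eq_one σ)
    rw [hu, fieldMap_scalarGL, scalarGL_mul_comm u g] at h1
    exact congrArg Units.val (scalarGL_injective (mul_left_cancel h1))
  obtain ⟨d, hd⟩ := exists_norm_eq σ u⁻¹ (by rw [Units.val_inv_eq_inv_val, map_inv₀, hfix])
  obtain ⟨h, hh⟩ := hilbert90 σ (g * scalarGL _ d) (by
    rw [normGL_scalar, hu, normGL_scalarGL, hd, ← map_mul, mul_inv_cancel]; exact map_one _)
  obtain ⟨η, hη⟩ := exists_induced (S := Matrix.SpecialLinearGroup (Fin n) F) rho_injective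
    (normalises_psl h 1)
  refine ⟨η, (mem_inndiagPSL_iff η).mpr ⟨h, hη⟩, ?_⟩
  have hinv := Induced.inverse rho_injective (normalises_psl h 1) hη
  rw [inv_one, fieldMap_one] at hinv
  have h1 := Induced.comp (normalises_psl _ _) (Induced.comp (normalises_psl 1 σ) hη hφ) hinv
  rw [map_one, mul_one, one_mul, mul_one, map_inv, ← hh] at h1
  have h2 := Induced.comp (normalises_psl _ _) hgφ (scalar_semi (g := scalarGL _
    ((Units.map (σ⁻¹).toRingHom.toMonoidHom) d)) (c := ((Units.map (σ⁻¹).toRingHom.toMonoidHom) d : F))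
    (scalarGL_coe _))
  rw [mul_one, mul_one, fieldMap_scalarGL] at h2
  have he : Units.map (σ.toRingHom : F →* F) ((Units.map (σ⁻¹).toRingHom.toMonoidHom) d) = d :=
    Units.ext (RingEquiv.apply_symm_apply σ (d : F))
  rw [he] at h2
  exact Induced.ext (normalises_psl _ _) h2 h1

/-- Elements of order two in the coset of a standard graph-field automorphism. -/
theorem graphField_coset (hn : 3 ≤ n) {σ : F ≃+* F}
    {φ : MulAut (Matrix.ProjectiveSpecialLinearGroup (Fin n) F)} (hφ : IsSemi 1 σ φ)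
    (hσ : orderOf σ = 2)
    {δ : MulAut (Matrix.ProjectiveSpecialLinearGroup (Fin n) F)} (hδ : δ ∈ Cfsg.inndiagPSL n F)
    (ho : orderOf (δ * (φ * itAut n F)) = 2) :
    Cfsg.IsConjUnder (Cfsg.inndiagPSL n F) (φ * itAut n F) (δ * (φ * itAut n F)) := by
  haveI : Nonempty (Fin n) := ⟨⟨0, by omega⟩⟩
  obtain ⟨g, hg⟩ := (mem_inndiagPSL_iff δ).mp hδ
  have hgφ := Induced.comp (normalises_psl 1 σ) hg hφ
  rw [map_one, mul_one, one_mul] at hgφ
  have hσ2 : σ * σ = 1 := by rw [← pow_two, ← hσ, pow_orderOf_eq_one]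
  have hσσ : ∀ x, σ (σ x) = x := fun x => DFunLike.congr_fun hσ2 x
  -- the square of `δ φ ι` is semilinear
  have hsq := Induced.comp (normalises_psl _ _) hgφ (IsSemi.it_conj hgφ)
  have e1 : δ * φ * (itAut n F * (δ * φ) * itAut n F) = 1 := by
    have := pow_orderOf_eq_one (δ * (φ * itAut n F))
    rw [ho, pow_two] at this
    simpa only [mul_assoc] using this
  rw [e1, hσ2] at hsq
  obtain ⟨-, c, hc, hN⟩ := IsSemi.eq_one (by omega) hsq
  -- so `g = c σ(g)ᵀ`
  have hgT : (g : Matrix (Fin n) (Fin n) F) = c • ((g : Matrix (Fin n) (Fin n) F).map σ)ᵀ := by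
    have h2 := congrArg (fun M => M * ((g : Matrix (Fin n) (Fin n) F).map σ)ᵀ) hN
    simp only [Units.val_mul, fieldMap_coe, itGL_coe, Matrix.smul_mul, Matrix.one_mul] at h2
    simp only [Matrix.transpose_map] at h2
    rw [Matrix.mul_assoc, ← Matrix.transpose_mul] at h2
    have h3 : (g : Matrix (Fin n) (Fin n) F).map σ * ((g⁻¹ : GL (Fin n) F) : Matrix (Fin n) (Fin n) F).map σ =
        ((fieldMap σ (g * g⁻¹) : GL (Fin n) F) : Matrix (Fin n) (Fin n) F) := by
      rw [map_mul, Units.val_mul]; rfl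
    rw [h3, mul_inv_cancel, map_one, Units.val_one, Matrix.transpose_one, Matrix.mul_one] at h2
    exact h2
  have hcc : c * σ c = 1 := by
    have h2 : (g : Matrix (Fin n) (Fin n) F) = (c * σ c) • (g : Matrix (Fin n) (Fin n) F) := by
      ext i j
      have e1 := congrFun (congrFun hgT i) j
      have e2 := congrFun (congrFun hgT j) i
      simp only [Matrix.smul_apply, Matrix.transpose_apply, Matrix.map_apply, smul_eq_mul] at e1 e2 ⊢
      conv_lhs => rw [e1, e2, map_mul, hσσ]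
      ring
    obtain ⟨i, j, hij⟩ : ∃ i j, (g : Matrix (Fin n) (Fin n) F) i j ≠ 0 := by
      by_contra hno
      push Not at hno
      exact g.ne_zero (Matrix.ext hno)
    have := congrFun (congrFun h2 i) j
    simp only [Matrix.smul_apply, smul_eq_mul] at this
    exact (mul_right_cancel₀ hij ((one_mul _).trans this)).symm
  obtain ⟨e, he⟩ := exists_twist σ (Units.mk0 c hc) (by
    rw [hσ]; apply Units.ext; rw [normU_two]; exact hcc)
  have he' : c * σ (e : F) = (e : F) := by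
    have := congrArg Units.val he
    rw [show twistU σ e = e / Units.map (σ.toRingHom : F →* F) e from rfl, Units.val_div_eq_div_val,
      Units.val_mk0] at this
    rw [this]
    exact div_mul_cancel₀ _ (σ.map_ne_zero_iff.mpr e.ne_zero)
  have hH : (((g * scalarGL _ e⁻¹ : GL (Fin n) F) : Matrix (Fin n) (Fin n) F).map σ)ᵀ =
      ((g * scalarGL _ e⁻¹ : GL (Fin n) F) : Matrix (Fin n) (Fin n) F) := by
    rw [Units.val_mul, scalarGL_coe, Matrix.mul_smul, Matrix.mul_one]
    conv_rhs => rw [hgT, smul_smul]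
    ext i j
    simp only [Matrix.smul_apply, Matrix.transpose_apply, Matrix.map_apply, smul_eq_mul,
      Units.val_inv_eq_inv_val, map_mul, map_inv₀]
    have := e.ne_zero
    have hs : σ (e : F) ≠ 0 := σ.map_ne_zero_iff.mpr e.ne_zero
    field_simp
    linear_combination -(σ ((g : Matrix (Fin n) (Fin n) F) j i)) * he'
  obtain ⟨h, hh⟩ := hermitian_decomp σ hσ (g * scalarGL _ e⁻¹) hH
  obtain ⟨η, hη⟩ := exists_induced (S := Matrix.SpecialLinearGroup (Fin n) F) rho_injective
    (normalises_psl h 1)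
  refine ⟨η, (mem_inndiagPSL_iff η).mpr ⟨h, hη⟩, ?_⟩
  have hinv := IsSemi.it_conj (Induced.inverse rho_injective (normalises_psl h 1) hη)
  rw [inv_one, fieldMap_one] at hinv
  have h1 := Induced.comp (normalises_psl _ _) (Induced.comp (normalises_psl 1 σ) hη hφ) hinv
  rw [map_one, mul_one, one_mul, mul_one] at h1
  have hval : h * fieldMap σ (itGL h⁻¹) = g * scalarGL _ e⁻¹ := by
    apply Units.ext
    rw [hh, Units.val_mul, fieldMap_coe, itGL_coe, inv_inv, Matrix.transpose_map]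
  rw [hval] at h1
  have h2 := Induced.comp (normalises_psl _ _) hgφ (scalar_semi (g := scalarGL _
    ((Units.map (σ⁻¹).toRingHom.toMonoidHom) e⁻¹)) (c := ((Units.map (σ⁻¹).toRingHom.toMonoidHom) e⁻¹ : F))
    (scalarGL_coe _))
  rw [mul_one, mul_one, fieldMap_scalarGL] at h2
  have hes : Units.map (σ.toRingHom : F →* F) ((Units.map (σ⁻¹).toRingHom.toMonoidHom) e⁻¹) = e⁻¹ :=
    Units.ext (RingEquiv.apply_symm_apply σ ((e⁻¹ : Fˣ) : F))
  rw [hes] at h2
  have hfin := Induced.ext (normalises_psl _ _) h2 h1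
  calc δ * (φ * itAut n F) = (δ * φ) * itAut n F := (mul_assoc _ _ _).symm
    _ = η * φ * (itAut n F * η⁻¹ * itAut n F) * itAut n F := by rw [hfin]
    _ = η * (φ * itAut n F) * η⁻¹ * (itAut n F * itAut n F) := by group
    _ = _ := by rw [itAut_mul_self, mul_one]

theorem itAut_comm_std {σ : F ≃+* F} {φ : MulAut (Matrix.ProjectiveSpecialLinearGroup (Fin n) F)}
    (hφ : IsSemi 1 σ φ) : Commute (itAut n F) φ := by
  have h1 := hφ.it_conj
  rw [map_one] at h1
  have h2 := Induced.ext (normalises_psl _ _) h1 hφ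
  calc itAut n F * φ = itAut n F * φ * (itAut n F * itAut n F) := by rw [itAut_mul_self, mul_one]
    _ = (itAut n F * φ * itAut n F) * itAut n F := by group
    _ = φ * itAut n F := by rw [h2]

/-- A standard graph-field automorphism of prime order is an involution with an involutory field part. -/
theorem graphField_order (hn : 3 ≤ n) {σ : F ≃+* F} (hσ : σ ≠ 1)
    {φ : MulAut (Matrix.ProjectiveSpecialLinearGroup (Fin n) F)} (hφ : IsSemi 1 σ φ)
    {r : ℕ} (hr : r.Prime) (ho : orderOf (φ * itAut n F) = r) : r = 2 ∧ orderOf σ = 2 := by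
  have hc := (itAut_comm_std hφ).symm
  have h1 := pow_orderOf_eq_one (φ * itAut n F)
  rw [ho, hc.mul_pow] at h1
  rcases hr.eq_two_or_odd' with rfl | hodd
  · refine ⟨rfl, ?_⟩
    rw [pow_two (itAut n F), itAut_mul_self, mul_one] at h1
    have h2 := IsSemi.pow hφ 2
    rw [h1] at h2
    exact orderOf_eq_prime (IsSemi.eq_one (by omega) h2).1 hσ
  · exfalso
    obtain ⟨k, rfl⟩ := hodd
    have hι : itAut n F ^ (2 * k + 1) = itAut n F := by
      rw [pow_succ, pow_mul, pow_two, itAut_mul_self, one_pow, one_mul]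
    rw [hι] at h1
    exact semi_not_eq_mul_it hn (induced_one' rho_injective) (IsSemi.pow hφ (2 * k + 1)) h1.symm

theorem coset_order_iff (hn : 2 ≤ n) (x δ : MulAut (Matrix.ProjectiveSpecialLinearGroup (Fin n) F))
    (hx : Cfsg.IsFieldAutClassPSL x ∨ Cfsg.IsGraphFieldAutClassPSL x) {r : ℕ} (hr : r.Prime)
    (hxr : orderOf x = r) (hδ : δ ∈ Cfsg.inndiagPSL n F) :
    orderOf (δ * x) = r ↔ Cfsg.IsConjUnder (Cfsg.inndiagPSL n F) x (δ * x) := by
  refine ⟨fun ho => ?_, fun ⟨h, _, he⟩ => by rw [he, orderOf_conj', hxr]⟩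
  have hnorm : ∀ α : MulAut (Matrix.ProjectiveSpecialLinearGroup (Fin n) F),
      ∀ d ∈ Cfsg.inndiagPSL n F, α * d * α⁻¹ ∈ Cfsg.inndiagPSL n F := fun α d hd => conj_inndiag hn α hd
  rcases hx with ⟨α, σ, -, hφ⟩ | ⟨hn3, α, φ, γ, σ, hσ, hφ, hγ, hα⟩
  · rw [isConjUnder_conj_iff hnorm α]
    have hsplit : α * (δ * x) * α⁻¹ = (α * δ * α⁻¹) * (α * x * α⁻¹) := by group
    rw [hsplit]
    apply field_coset hn ((isStdField_iff σ _).mp hφ) (hnorm α δ hδ)
    rw [← hsplit, orderOf_conj', orderOf_conj', ho, hxr]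
  · rw [isConjUnder_conj_iff hnorm α]
    have hsplit : α * (δ * x) * α⁻¹ = (α * δ * α⁻¹) * (α * x * α⁻¹) := by group
    rw [hsplit, hα, (isInverseTranspose_iff γ).mp hγ]
    have hφ' := (isStdField_iff σ φ).mp hφ
    have hord : orderOf (φ * itAut n F) = r := by
      rw [← (isInverseTranspose_iff γ).mp hγ, ← hα, orderOf_conj', hxr]
    obtain ⟨hr2, hσ2⟩ := graphField_order hn3 hσ hφ' hr hord
    apply graphField_coset hn3 hφ' hσ2 (hnorm α δ hδ)
    rw [← (isInverseTranspose_iff γ).mp hγ, ← hα, ← hsplit, orderOf_conj', ho, hr2]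

end Cfsg.Agent.AutPSL
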