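import Mathlib
import Cfsg.Agent.AutPSL.Coset
import Cfsg.Agent.AutPSL.FiniteField
import Cfsg.Agent.AutPSL.ClassCount

/-!
Centralisers of field and graph-field automorphisms in `PGL_n(q)` and the splitting of their classes
(helper60).
-/

set_option autoImplicit false

namespace Cfsg.Agent.AutPSL

open Matrix

universe u v

variable {n : ℕ} {F : Type u} [Field F] [Fintype F]

variable (n F) in
/-- Conjugation by `GL_n` on `PSL_n`. -/
noncomputable def pgl : GL (Fin n) F →* MulAut (Matrix.ProjectiveSpecialLinearGroup (Fin n) F) where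
  toFun g := Classical.choose (exists_induced (S := Matrix.SpecialLinearGroup (Fin n) F) rho_injective (normalises_psl g 1))
  map_one' := Induced.ext normalises_one
    (Classical.choose_spec (exists_induced (S := Matrix.SpecialLinearGroup (Fin n) F) rho_injective (normalises_psl 1 1)))
    (induced_one' rho_injective)
  map_mul' g h := by
    have hc := Induced.comp (normalises_psl h 1)
      (Classical.choose_spec (exists_induced (S := Matrix.SpecialLinearGroup (Fin n) F) rho_injective (normalises_psl g 1)))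
      (Classical.choose_spec (exists_induced (S := Matrix.SpecialLinearGroup (Fin n) F) rho_injective (normalises_psl h 1)))
    rw [one_mul, fieldMap_one] at hc
    exact Induced.ext (normalises_psl _ _) (Classical.choose_spec (exists_induced
      (S := Matrix.SpecialLinearGroup (Fin n) F) rho_injective (normalises_psl (g * h) 1))) hc

theorem isSemi_pgl (g : GL (Fin n) F) : IsSemi g 1 (pgl n F g) :=
  Classical.choose_spec (exists_induced (S := Matrix.SpecialLinearGroup (Fin n) F) rho_injective (normalises_psl g 1))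

theorem eq_pgl {g : GL (Fin n) F} {β : MulAut (Matrix.ProjectiveSpecialLinearGroup (Fin n) F)}
    (h : IsSemi g 1 β) : β = pgl n F g :=
  Induced.ext (normalises_psl _ _) h (isSemi_pgl g)

theorem pgl_range : (pgl n F).range = Cfsg.inndiagPSL n F := by
  ext β
  rw [mem_inndiagPSL_iff]
  exact ⟨fun ⟨g, hg⟩ => ⟨g, hg ▸ isSemi_pgl g⟩, fun ⟨g, hg⟩ => ⟨g, (eq_pgl hg).symm⟩⟩

theorem pgl_scalar (c : Fˣ) : pgl n F (scalarGL _ c) = 1 :=
  (eq_pgl (scalar_semi (scalarGL_coe c))).symm

theorem pgl_eq_one_iff (hn : 2 ≤ n) {g : GL (Fin n) F} :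
    pgl n F g = 1 ↔ ∃ c : Fˣ, g = scalarGL _ c := by
  constructor
  · intro h
    have := isSemi_pgl g
    rw [h] at this
    obtain ⟨-, c, hc, hg⟩ := IsSemi.eq_one hn this
    obtain ⟨u, -, hu⟩ := exists_scalarGL hc hg
    exact ⟨u, hu⟩
  · rintro ⟨c, rfl⟩
    exact pgl_scalar c

theorem pgl_eq_iff (hn : 2 ≤ n) {g h : GL (Fin n) F} :
    pgl n F g = pgl n F h ↔ ∃ c : Fˣ, g = h * scalarGL _ c := by
  rw [← inv_mul_eq_one (a := pgl n F h) (b := pgl n F g) |>.trans eq_comm, ← map_inv, ← map_mul,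
    pgl_eq_one_iff hn]
  exact exists_congr fun c => inv_mul_eq_iff_eq_mul

variable (n F) in
/-- The determinant modulo `n`-th powers. -/
noncomputable def detClass : GL (Fin n) F →* Fˣ ⧸ (powMonoidHom n : Fˣ →* Fˣ).range :=
  (QuotientGroup.mk' _).comp Matrix.GeneralLinearGroup.det

theorem detClass_surjective (hn : 2 ≤ n) : Function.Surjective (detClass n F) := by
  haveI : Nonempty (Fin n) := ⟨⟨0, by omega⟩⟩
  exact (QuotientGroup.mk'_surjective _).comp Matrix.GeneralLinearGroup.det_surjective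

theorem pgl_ker_le (hn : 2 ≤ n) : (pgl n F).ker ≤ (detClass n F).ker := by
  intro g hg
  obtain ⟨c, rfl⟩ := (pgl_eq_one_iff hn).mp (MonoidHom.mem_ker.mp hg)
  show (QuotientGroup.mk _ : Fˣ ⧸ _) = 1
  rw [QuotientGroup.eq_one_iff]
  exact ⟨c, by rw [Matrix.GeneralLinearGroup.det_scalar, Fintype.card_fin]; rfl⟩

theorem pgl_rho (s : Matrix.SpecialLinearGroup (Fin n) F) :
    pgl n F (rho n F s) = MulAut.conj (QuotientGroup.mk s : Matrix.ProjectiveSpecialLinearGroup (Fin n) F) :=
  (eq_pgl (conj_isSemi s)).symm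

theorem inn_eq_map (hn : 2 ≤ n) :
    Cfsg.Inn (Matrix.ProjectiveSpecialLinearGroup (Fin n) F) = (detClass n F).ker.map (pgl n F) := by
  ext β
  constructor
  · rintro ⟨x, rfl⟩
    obtain ⟨s, rfl⟩ := QuotientGroup.mk_surjective x
    refine ⟨rho n F s, ?_, pgl_rho s⟩
    show (QuotientGroup.mk _ : Fˣ ⧸ _) = 1
    rw [QuotientGroup.eq_one_iff]
    refine ⟨1, ?_⟩
    apply Units.ext
    show ((1 : Fˣ) ^ n : Fˣ).val = _
    rw [one_pow, Units.val_one, Matrix.GeneralLinearGroup.val_det_apply, rho_coe]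
    exact s.2.symm
  · rintro ⟨g, hg, rfl⟩
    obtain ⟨c, hc⟩ := (QuotientGroup.eq_one_iff _).mp (MonoidHom.mem_ker.mp hg)
    have hdet : Matrix.GeneralLinearGroup.det (g * scalarGL _ c⁻¹) = 1 := by
      rw [map_mul, Matrix.GeneralLinearGroup.det_scalar, Fintype.card_fin, inv_pow, ← hc]
      exact mul_inv_cancel _
    let s : Matrix.SpecialLinearGroup (Fin n) F :=
      ⟨((g * scalarGL _ c⁻¹ : GL (Fin n) F) : Matrix (Fin n) (Fin n) F),
        by rw [← Matrix.GeneralLinearGroup.val_det_apply, hdet, Units.val_one]⟩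
    refine ⟨QuotientGroup.mk s, ?_⟩
    rw [← pgl_rho, show rho n F s = g * scalarGL _ c⁻¹ from Units.ext rfl, map_mul, pgl_scalar, mul_one]

theorem inn_conj {T : Type*} [Group T] (α : MulAut T) (d : MulAut T) (hd : d ∈ Cfsg.Inn T) :
    α * d * α⁻¹ ∈ Cfsg.Inn T := Subgroup.Normal.conj_mem inferInstance d hd α

/-- The diagonal matrix `diag(c, 1, …, 1)`. -/
noncomputable def diagGL (hn : 2 ≤ n) (c : Fˣ) : GL (Fin n) F :=
  Matrix.GeneralLinearGroup.mk'' (Matrix.diagonal (Function.update (fun _ => (1 : F)) ⟨0, by omega⟩ c)) (by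
    rw [Matrix.det_diagonal, Finset.prod_update_of_mem (Finset.mem_univ _)]
    simp)

theorem diagGL_det (hn : 2 ≤ n) (c : Fˣ) :
    Matrix.GeneralLinearGroup.det (diagGL hn c : GL (Fin n) F) = c := by
  apply Units.ext
  rw [Matrix.GeneralLinearGroup.val_det_apply]
  show (Matrix.diagonal _).det = _
  rw [Matrix.det_diagonal, Finset.prod_update_of_mem (Finset.mem_univ _)]
  simp

theorem card_units_eq (q : ℕ) (hq : Fintype.card F = q) : Nat.card Fˣ = q - 1 := by
  rw [Nat.card_units, Nat.card_eq_fintype_card, hq]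

theorem card_ker_twist (σ : F ≃+* F) :
    Nat.card (twistU σ).ker = Nat.card {x : F // σ x = x} - 1 := by
  classical
  let L : Subfield F := (σ.toRingHom).eqLocusField (RingHom.id F)
  rw [show Nat.card {x : F // σ x = x} = Nat.card L from rfl, ← Nat.card_units L]
  refine Nat.card_congr
    { toFun := fun c => Units.mk0 (⟨((c : Fˣ) : F), (mem_ker_twistU σ _).mp c.2⟩ : L)
        (fun h => (c : Fˣ).ne_zero (congrArg Subtype.val h))
      invFun := fun u => ⟨Units.mk0 ((u : L) : F) (fun h => u.ne_zero (Subtype.ext h)),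
        (mem_ker_twistU σ _).mpr (u : L).2⟩
      left_inv := fun c => Subtype.ext (Units.ext rfl)
      right_inv := fun u => Units.ext rfl }

/-- `d(C(x))` when `C(x)` is the image of a subgroup `C₀` together with the scalars. -/
theorem index_detClass (hn : 2 ≤ n) (x : MulAut (Matrix.ProjectiveSpecialLinearGroup (Fin n) F))
    (K : Subgroup Fˣ)
    (h1 : ∀ g : GL (Fin n) F, pgl n F g ∈ Subgroup.centralizer ({x} : Set _) →
      Matrix.GeneralLinearGroup.det g ∈ K ⊔ (powMonoidHom n : Fˣ →* Fˣ).range)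
    (h2 : ∀ c ∈ K, ∃ g : GL (Fin n) F, pgl n F g ∈ Subgroup.centralizer ({x} : Set _) ∧
      Matrix.GeneralLinearGroup.det g = c) :
    Cfsg.splitClassCount (Cfsg.inndiagPSL n F) (Cfsg.Inn (Matrix.ProjectiveSpecialLinearGroup (Fin n) F)) x =
      Nat.gcd n K.index := by
  have hcount := splitClassCount_eq (A := Fˣ ⧸ (powMonoidHom n : Fˣ →* Fˣ).range) (pgl n F) (detClass n F)
    (detClass_surjective hn) (pgl_ker_le hn) x
  rw [← pgl_range, inn_eq_map hn]
  refine hcount.trans ?_
  rw [← index_sup_powMonoidHom]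
  have h : ((Subgroup.centralizer ({x} : Set _)).comap (pgl n F)).map (detClass n F) =
      (K ⊔ (powMonoidHom n : Fˣ →* Fˣ).range).map (QuotientGroup.mk' _) := by
    rw [detClass, ← Subgroup.map_map]
    have hsc : ∀ c : Fˣ, scalarGL (Fin n) c ∈ (Subgroup.centralizer ({x} : Set _)).comap (pgl n F) := by
      intro c
      show pgl n F (scalarGL _ c) ∈ Subgroup.centralizer ({x} : Set _)
      rw [pgl_scalar]; exact one_mem _
    congr 1
    apply le_antisymm
    · rintro _ ⟨g, hg, rfl⟩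
      exact h1 g hg
    · refine sup_le (fun c hc => ?_) ?_
      · obtain ⟨g, hg, hd⟩ := h2 c hc
        exact ⟨g, hg, hd⟩
      · rintro _ ⟨c, rfl⟩
        exact ⟨_, hsc c, by rw [Matrix.GeneralLinearGroup.det_scalar, Fintype.card_fin]; rfl⟩
  rw [h, Subgroup.index_map, MonoidHom.range_eq_top_of_surjective _ (QuotientGroup.mk'_surjective _),
    Subgroup.index_top, mul_one, QuotientGroup.ker_mk', sup_eq_left.mpr le_sup_right]

theorem semi_comm_pgl {σ : F ≃+* F} {φ : MulAut (Matrix.ProjectiveSpecialLinearGroup (Fin n) F)}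
    (hφ : IsSemi 1 σ φ) (g : GL (Fin n) F) : φ * pgl n F g = pgl n F (fieldMap σ g) * φ := by
  have h1 := Induced.comp (normalises_psl g 1) hφ (isSemi_pgl g)
  rw [one_mul, mul_one] at h1
  have h2 := Induced.comp (normalises_psl 1 σ) (isSemi_pgl (fieldMap σ g)) hφ
  rw [map_one, mul_one, one_mul] at h2
  exact Induced.ext (normalises_psl _ _) h1 h2

theorem comm_field_iff (hn : 2 ≤ n) {σ : F ≃+* F}
    {φ : MulAut (Matrix.ProjectiveSpecialLinearGroup (Fin n) F)} (hφ : IsSemi 1 σ φ) (g : GL (Fin n) F) :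
    pgl n F g ∈ Subgroup.centralizer ({φ} : Set _) ↔
      ∃ (g₀ : GL (Fin n) F) (d : Fˣ), fieldMap σ g₀ = g₀ ∧ g = g₀ * scalarGL _ d := by
  haveI : Nonempty (Fin n) := ⟨⟨0, by omega⟩⟩
  rw [mem_centralizer_single, semi_comm_pgl hφ, mul_left_inj, pgl_eq_iff hn]
  constructor
  · rintro ⟨c, hc⟩
    have hit : ∀ k : ℕ, fieldMap (σ ^ k) g = g * scalarGL _ (normU σ k c) := by
      intro k
      induction k with
      | zero => rw [pow_zero, fieldMap_one, show normU σ 0 c = 1 from rfl]; simp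
      | succ k ih =>
        rw [pow_succ, fieldMap_mul, hc, map_mul, ih, fieldMap_scalarGL, mul_assoc, ← map_mul]
        congr 2
        exact (Finset.prod_range_succ (fun i => Units.map ((σ ^ i).toRingHom : F →* F) c) k).symm
    have hN : normU σ (orderOf σ) c = 1 := by
      have := hit (orderOf σ)
      rw [pow_orderOf_eq_one, fieldMap_one, eq_comm, mul_eq_left] at this
      exact scalarGL_injective (this.trans (map_one _).symm)
    obtain ⟨d, hd⟩ := exists_twist σ c hN
    refine ⟨g * scalarGL _ d, d⁻¹, ?_, ?_⟩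
    · rw [map_mul, hc, fieldMap_scalarGL, mul_assoc, ← map_mul, hd]
      congr 2
      exact div_mul_cancel d _
    · rw [mul_assoc, ← map_mul, mul_inv_cancel]
      exact ((congrArg (g * ·) (map_one _)).trans (mul_one g)).symm
  · rintro ⟨g₀, d, hg₀, rfl⟩
    refine ⟨Units.map (σ.toRingHom : F →* F) d / d, ?_⟩
    rw [map_mul, hg₀, fieldMap_scalarGL, mul_assoc, ← map_mul]
    congr 2
    exact (mul_div_cancel d _).symm

theorem field_centralizer (hn : 2 ≤ n) {p f : ℕ} (hp : p.Prime) (hF : Fintype.card F = p ^ f)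
    (hf : 1 ≤ f) {σ : F ≃+* F} {φ : MulAut (Matrix.ProjectiveSpecialLinearGroup (Fin n) F)}
    (hφ : IsSemi 1 σ φ) {r : ℕ} (hr : orderOf σ = r) (F₀ : Type v) [Field F₀] [Fintype F₀]
    (hF₀ : Fintype.card F₀ = p ^ (f / r)) :
    r ∣ f ∧ Nonempty (↥(Cfsg.inndiagPSL n F ⊓ Subgroup.centralizer {φ}) ≃* Matrix.ProjGenLinGroup (Fin n) F₀) ∧
      Cfsg.splitClassCount (Cfsg.inndiagPSL n F) (Cfsg.Inn (Matrix.ProjectiveSpecialLinearGroup (Fin n) F)) φ =
        Nat.gcd n ((p ^ f - 1) / (p ^ (f / r) - 1)) := by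
  classical
  obtain ⟨hrf, hfix⟩ := card_fixed_eq hr hp hF hf
  obtain ⟨i, hi⟩ := exists_fixed_embedding σ F₀ (hF₀.trans hfix.symm)
  have hfix' : ∀ g : GL (Fin n) F₀,
      fieldMap σ (Matrix.GeneralLinearGroup.map i g) = Matrix.GeneralLinearGroup.map i g := by
    intro g
    apply Units.ext
    ext a b
    exact (hi _).mpr ⟨_, rfl⟩
  refine ⟨hrf, ?_, ?_⟩
  · let Φ : GL (Fin n) F₀ →* ↥(Cfsg.inndiagPSL n F ⊓ Subgroup.centralizer {φ}) :=
      ((pgl n F).comp (Matrix.GeneralLinearGroup.map i)).codRestrict _ (fun g => by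
        refine ⟨?_, (comm_field_iff hn hφ _).mpr ⟨_, 1, hfix' g, ?_⟩⟩
        · show pgl n F _ ∈ Cfsg.inndiagPSL n F
          rw [← pgl_range]; exact ⟨_, rfl⟩
        · rw [show scalarGL (Fin n) (1 : Fˣ) = 1 from map_one _, mul_one])
    have hsurj : Function.Surjective Φ := by
      rintro ⟨β, hβ, hc⟩
      rw [SetLike.mem_coe, ← pgl_range] at hβ
      obtain ⟨g, rfl⟩ := hβ
      obtain ⟨g₀, d, hg₀, rfl⟩ := (comm_field_iff hn hφ g).mp hc
      have hentry : ∀ a b, ∃ y, i y = (g₀ : Matrix (Fin n) (Fin n) F) a b := fun a b =>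
        (hi _).mp (congrArg (fun g : GL (Fin n) F => (g : Matrix (Fin n) (Fin n) F) a b) hg₀)
      choose M hM using hentry
      obtain ⟨M', hM'⟩ : ∃ M' : Matrix (Fin n) (Fin n) F₀, M' = Matrix.of M := ⟨_, rfl⟩
      have hMd : M'.map i = (g₀ : Matrix (Fin n) (Fin n) F) := by rw [hM']; exact Matrix.ext hM
      have hu : IsUnit M'.det := by
        refine isUnit_iff_ne_zero.mpr fun hz => ?_
        have h2 : (M'.map i).det = 0 := by
          rw [show M'.map i = i.mapMatrix M' from rfl, ← RingHom.map_det, hz, map_zero]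
        rw [hMd] at h2
        exact (Matrix.GeneralLinearGroup.det_ne_zero g₀) h2
      refine ⟨Matrix.GeneralLinearGroup.mk'' M' hu, Subtype.ext ?_⟩
      show pgl n F _ = pgl n F (g₀ * scalarGL _ d)
      rw [map_mul, pgl_scalar, mul_one]
      congr 1
      exact Units.ext hMd
    have hker : Φ.ker = Subgroup.center (GL (Fin n) F₀) := by
      ext g
      rw [MonoidHom.mem_ker, Matrix.GeneralLinearGroup.center_eq_range_scalar]
      constructor
      · intro h
        obtain ⟨c, hc⟩ := (pgl_eq_one_iff hn).mp (congrArg Subtype.val h)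
        have hc0 : σ (c : F) = c := by
          have h5 := hfix' g
          rw [hc, fieldMap_scalarGL] at h5
          haveI : Nonempty (Fin n) := ⟨⟨0, by omega⟩⟩
          exact congrArg Units.val (scalarGL_injective h5)
        obtain ⟨y, hy⟩ := (hi _).mp hc0
        have hy0 : y ≠ 0 := by rintro rfl; exact c.ne_zero (hy ▸ map_zero i)
        refine ⟨Units.mk0 y hy0, ?_⟩
        apply Units.ext
        ext a b
        apply i.injective
        have := congrArg (fun g : GL (Fin n) F => (g : Matrix (Fin n) (Fin n) F) a b) hc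
        simp only [scalarGL_coe] at this
        show i (Matrix.scalar (Fin n) y a b) = i _
        rw [show i ((g : Matrix (Fin n) (Fin n) F₀) a b) =
          ((c : F) • (1 : Matrix (Fin n) (Fin n) F)) a b from this]
        by_cases hab : a = b <;> simp [Matrix.scalar_apply, hab, hy]
      · rintro ⟨c, rfl⟩
        apply Subtype.ext
        show pgl n F (Matrix.GeneralLinearGroup.map i _) = 1
        rw [Matrix.GeneralLinearGroup.map_scalar]
        exact pgl_scalar _
    exact ⟨((QuotientGroup.quotientMulEquivOfEq hker.symm).trans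
      (QuotientGroup.quotientKerEquivOfSurjective Φ hsurj)).symm⟩
  · rw [index_detClass hn φ (twistU σ).ker]
    · congr 1
      have h1 := Subgroup.card_mul_index (twistU σ).ker
      rw [card_ker_twist, hfix, card_units_eq (p ^ f) hF] at h1
      have h2 : 1 ≤ f / r := (Nat.div_pos (Nat.le_of_dvd hf hrf) (Nat.pos_of_ne_zero (fun h => by
        rw [h] at hrf; simp at hrf; omega)))
      have h3 : 2 ≤ p ^ (f / r) := le_trans hp.two_le (Nat.le_self_pow (by omega) p)
      rw [← h1, Nat.mul_div_cancel_left _ (by omega)]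
    · intro g hg
      obtain ⟨g₀, d, hg₀, rfl⟩ := (comm_field_iff hn hφ g).mp hg
      rw [map_mul, Matrix.GeneralLinearGroup.det_scalar, Fintype.card_fin]
      refine Subgroup.mul_mem_sup ((mem_ker_twistU σ _).mpr ?_) ⟨d, rfl⟩
      rw [Matrix.GeneralLinearGroup.val_det_apply]
      conv_rhs => rw [← hg₀]
      exact RingHom.map_det (σ : F →+* F) _
    · intro c hc
      refine ⟨diagGL hn c, (comm_field_iff hn hφ _).mpr ⟨diagGL hn c, 1, ?_, ?_⟩, diagGL_det hn c⟩
      · have hc' := (mem_ker_twistU σ c).mp hc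
        apply Units.ext
        rw [fieldMap_coe]
        show (Matrix.diagonal _).map σ = Matrix.diagonal _
        rw [Matrix.diagonal_map (map_zero σ)]
        congr 1
        funext a
        by_cases ha : a = ⟨0, by omega⟩
        · subst ha; simp [hc']
        · simp [Function.update_of_ne ha]
      · rw [show scalarGL (Fin n) (1 : Fˣ) = 1 from map_one _, mul_one]

theorem field_class (hn : 2 ≤ n) {p f : ℕ} (hp : p.Prime) (hF : Fintype.card F = p ^ f) (hf : 1 ≤ f)
    (x : MulAut (Matrix.ProjectiveSpecialLinearGroup (Fin n) F)) (hx : Cfsg.IsFieldAutClassPSL x)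
    {r : ℕ} (hxr : orderOf x = r) (F₀ : Type v) [Field F₀] [Fintype F₀]
    (hF₀ : Fintype.card F₀ = p ^ (f / r)) :
    r ∣ f ∧ Nonempty (↥(Cfsg.inndiagPSL n F ⊓ Subgroup.centralizer {x}) ≃* Matrix.ProjGenLinGroup (Fin n) F₀) ∧
      Cfsg.splitClassCount (Cfsg.inndiagPSL n F) (Cfsg.Inn (Matrix.ProjectiveSpecialLinearGroup (Fin n) F)) x =
        Nat.gcd n ((p ^ f - 1) / (p ^ (f / r) - 1)) := by
  obtain ⟨α, σ, -, hφ⟩ := hx
  have hφ' := (isStdField_iff σ _).mp hφ
  have hr : orderOf σ = r := by rw [← orderOf_stdField hn hφ', orderOf_conj', hxr]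
  obtain ⟨h1, ⟨e2⟩, h3⟩ := field_centralizer hn hp hF hf hφ' hr F₀ hF₀
  obtain ⟨e⟩ := centralizer_conj_equiv (Cfsg.inndiagPSL n F) (fun α d hd => conj_inndiag hn α hd) α x
  rw [splitClassCount_conj (X := MulAut (Matrix.ProjectiveSpecialLinearGroup (Fin n) F)) _ _
    (fun α d hd => conj_inndiag hn α hd) (fun α d hd => inn_conj α d hd)] at h3
  exact ⟨h1, ⟨e.trans e2⟩, h3⟩

end Cfsg.Agent.AutPSL
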