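import Mathlib
import Cfsg.Agent.AutPSL.Centralizer

/-!
The involutory graph-field automorphisms of `PSL_n(q)` (helper60).
-/

set_option autoImplicit false

namespace Cfsg.Agent.AutPSL

open Matrix

universe u

variable {n : ℕ} {F : Type u} [Field F] [Fintype F]

theorem pgl_it (g : GL (Fin n) F) :
    itAut n F * pgl n F g * itAut n F = pgl n F (itGL g) :=
  eq_pgl (isSemi_pgl g).it_conj

theorem fieldMap_scalar_fixed_diag (σ : F ≃+* F) (c : Fˣ) {h : GL (Fin n) F} (i : Fin n)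
    (e : (h : Matrix (Fin n) (Fin n) F) * ((h : Matrix (Fin n) (Fin n) F).map σ)ᵀ =
      (c : F) • (1 : Matrix (Fin n) (Fin n) F)) (hσ : ∀ x, σ (σ x) = x) : σ (c : F) = c := by
  have h1 := congrFun (congrFun e i) i
  simp only [Matrix.mul_apply, Matrix.transpose_apply, Matrix.map_apply, Matrix.smul_apply,
    Matrix.one_apply_eq, smul_eq_mul, mul_one] at h1
  rw [← h1, map_sum]
  refine Finset.sum_congr rfl fun k _ => ?_
  rw [map_mul, hσ]; ring

theorem comm_graphField_iff (hn : 3 ≤ n) {σ : F ≃+* F} (hσ : orderOf σ = 2)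
    {φ : MulAut (Matrix.ProjectiveSpecialLinearGroup (Fin n) F)} (hφ : IsSemi 1 σ φ) (g : GL (Fin n) F) :
    pgl n F g ∈ Subgroup.centralizer ({φ * itAut n F} : Set _) ↔
      ∃ (g₀ : GL (Fin n) F) (d : Fˣ),
        (g₀ : Matrix (Fin n) (Fin n) F) * ((g₀ : Matrix (Fin n) (Fin n) F).map σ)ᵀ = 1 ∧
          g = g₀ * scalarGL _ d := by
  haveI : Nonempty (Fin n) := ⟨⟨0, by omega⟩⟩
  have hσ2 : σ * σ = 1 := by rw [← pow_two, ← hσ, pow_orderOf_eq_one]
  have hσσ : ∀ x, σ (σ x) = x := fun x => DFunLike.congr_fun hσ2 x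
  have key : φ * itAut n F * pgl n F g = pgl n F (fieldMap σ (itGL g)) * (φ * itAut n F) := by
    calc φ * itAut n F * pgl n F g = φ * (itAut n F * pgl n F g * itAut n F) * itAut n F := by
          rw [mul_assoc, mul_assoc φ, mul_assoc _ (itAut n F) (itAut n F), itAut_mul_self, mul_one]
      _ = _ := by rw [pgl_it, semi_comm_pgl hφ, mul_assoc]
  rw [mem_centralizer_single, key, mul_left_inj, pgl_eq_iff (by omega)]
  constructor
  · rintro ⟨c, hc⟩
    -- `g σ(g)ᵀ` is scalar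
    have h1 : g * fieldMap σ (itGL g⁻¹) = scalarGL _ c⁻¹ := by
      rw [map_inv, map_inv, hc, ← scalarGL_mul_comm c g, _root_.mul_inv_rev, mul_inv_cancel_left]
      exact (map_inv _ c).symm
    have h2 : (g : Matrix (Fin n) (Fin n) F) * ((g : Matrix (Fin n) (Fin n) F).map σ)ᵀ =
        ((c⁻¹ : Fˣ) : F) • (1 : Matrix (Fin n) (Fin n) F) := by
      rw [← scalarGL_coe, ← h1, Units.val_mul, fieldMap_coe, itGL_coe, inv_inv, Matrix.transpose_map]
    have hfix := fieldMap_scalar_fixed_diag σ c⁻¹ ⟨0, by omega⟩ h2 hσσ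
    obtain ⟨d, hd⟩ := exists_norm_eq σ c (by
      have := congrArg (·⁻¹) hfix
      simpa [Units.val_inv_eq_inv_val, map_inv₀] using this)
    refine ⟨g * scalarGL _ d, d⁻¹, ?_, ?_⟩
    · have e : ((fieldMap σ (scalarGL (Fin n) d) : GL (Fin n) F) : Matrix (Fin n) (Fin n) F) =
          (σ (d : F)) • (1 : Matrix (Fin n) (Fin n) F) := by
        rw [fieldMap_scalarGL, scalarGL_coe]; rfl
      rw [Units.val_mul, scalarGL_coe, Matrix.mul_smul, Matrix.mul_one,
        show ((d : F) • (g : Matrix (Fin n) (Fin n) F)).map σ = σ (d : F) • (g : Matrix (Fin n) (Fin n) F).map σ from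
          Matrix.ext fun a b => map_mul σ _ _,
        Matrix.transpose_smul, Matrix.smul_mul, Matrix.mul_smul, smul_smul, h2, smul_smul,
        ← normU_two, ← hσ, hd, ← Units.val_mul, mul_inv_cancel, Units.val_one, one_smul]
    · rw [mul_assoc, ← map_mul, mul_inv_cancel]
      exact ((congrArg (g * ·) (map_one _)).trans (mul_one g)).symm
  · rintro ⟨g₀, d, hg₀, rfl⟩
    have h3 : g₀ * fieldMap σ (itGL g₀⁻¹) = 1 := by
      apply Units.ext
      rw [Units.val_mul, fieldMap_coe, itGL_coe, inv_inv, Matrix.transpose_map, hg₀, Units.val_one]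
    have h4 : fieldMap σ (itGL g₀) = g₀ := by
      rw [map_inv, map_inv, mul_inv_eq_one] at h3
      exact h3.symm
    have h5 : itGL (scalarGL (Fin n) d) = scalarGL (Fin n) d⁻¹ := by
      apply Units.ext
      rw [itGL_coe, ← map_inv, scalarGL_coe, Matrix.transpose_smul, Matrix.transpose_one]
    refine ⟨(Units.map (σ.toRingHom : F →* F) d⁻¹) / d, ?_⟩
    rw [map_mul, map_mul, h4, h5, fieldMap_scalarGL, mul_assoc, ← map_mul]
    congr 2
    exact (mul_div_cancel d _).symm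

theorem hermForm_preserved_iff {σ : F ≃+* F} {q : ℕ} (hq : ∀ x, σ x = x ^ q) (hσσ : ∀ x, σ (σ x) = x)
    (g : GL (Fin n) F) :
    g ∈ Cfsg.GU n F q ↔ (g : Matrix (Fin n) (Fin n) F) * ((g : Matrix (Fin n) (Fin n) F).map σ)ᵀ = 1 := by
  set M : Matrix (Fin n) (Fin n) F := (g : Matrix (Fin n) (Fin n) F)
  have hform : ∀ u v : Fin n → F, Cfsg.hermForm n F q u v = u ⬝ᵥ (⇑σ ∘ v) := fun u v =>
    Finset.sum_congr rfl fun i _ => by rw [Function.comp_apply, hq]
  have hmap : ∀ v : Fin n → F, ⇑σ ∘ (M *ᵥ v) = M.map σ *ᵥ (⇑σ ∘ v) := fun v => by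
    funext i; exact RingHom.map_mulVec (σ : F →+* F) M v i
  have h1 : g ∈ Cfsg.GU n F q ↔ Mᵀ * M.map σ = 1 := by
    constructor
    · intro h
      ext i j
      have h3 := h (Pi.single i 1) (Pi.single j 1)
      change Cfsg.hermForm n F q (M *ᵥ Pi.single i 1) (M *ᵥ Pi.single j 1) = _ at h3
      rw [hform, hform] at h3
      rw [Matrix.mul_apply, Matrix.one_apply]
      have e1 : (Pi.single i (1 : F) : Fin n → F) ⬝ᵥ (⇑σ ∘ Pi.single j 1) = if i = j then 1 else 0 := by
        rw [single_dotProduct, one_mul, Function.comp_apply]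
        by_cases hij : i = j
        · subst hij; simp
        · simp [hij]
      rw [← e1, ← h3]
      refine Finset.sum_congr rfl fun k _ => ?_
      simp [mulVec_single_one]
    · intro h u v
      show Cfsg.hermForm n F q (M *ᵥ u) (M *ᵥ v) = _
      rw [hform, hform, hmap, dotProduct_mulVec, vecMul_mulVec, ← dotProduct_mulVec, h, one_mulVec]
  rw [h1]
  have hinv : (M.map σ).map σ = M := Matrix.ext fun a b => hσσ _
  constructor
  · intro h
    have h2 : M.map σ * Mᵀ = 1 := mul_eq_one_comm.mp h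
    have h3 := congrArg (fun A : Matrix (Fin n) (Fin n) F => A.map σ) h2
    simp only [Matrix.map_mul, hinv, Matrix.map_one _ (map_zero σ) (map_one σ), Matrix.transpose_map] at h3
    exact h3
  · intro h
    have h2 : (M.map σ)ᵀ * M = 1 := mul_eq_one_comm.mp h
    have h3 := congrArg (fun A : Matrix (Fin n) (Fin n) F => A.map σ) h2
    have hinvT : (Mᵀ.map σ).map σ = Mᵀ := Matrix.ext fun a b => hσσ _
    simp only [Matrix.map_mul, Matrix.map_one _ (map_zero σ) (map_one σ), ← Matrix.transpose_map, hinvT] at h3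
    exact h3

theorem graphField_centralizer (hn : 3 ≤ n) {p f : ℕ} (hp : p.Prime) (hF : Fintype.card F = p ^ f)
    (hf : 1 ≤ f) {σ : F ≃+* F} (hσ : orderOf σ = 2)
    {φ : MulAut (Matrix.ProjectiveSpecialLinearGroup (Fin n) F)} (hφ : IsSemi 1 σ φ) :
    Even f ∧
      Nonempty (↥(Cfsg.inndiagPSL n F ⊓ Subgroup.centralizer {φ * itAut n F}) ≃*
        Cfsg.PGU n F (p ^ (f / 2))) ∧
      Cfsg.splitClassCount (Cfsg.inndiagPSL n F) (Cfsg.Inn (Matrix.ProjectiveSpecialLinearGroup (Fin n) F))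
        (φ * itAut n F) = Nat.gcd n (p ^ (f / 2) - 1) := by
  classical
  obtain ⟨hdvd, hfix⟩ := card_fixed_eq hσ hp hF hf
  have hσ2 : σ * σ = 1 := by rw [← pow_two, ← hσ, pow_orderOf_eq_one]
  have hσσ : ∀ x, σ (σ x) = x := fun x => DFunLike.congr_fun hσ2 x
  have hq : ∀ x, σ x = x ^ p ^ (f / 2) := involution_eq_pow hσ hp hF hf
  have hGU := hermForm_preserved_iff (n := n) hq hσσ
  refine ⟨even_iff_two_dvd.mpr hdvd, ?_, ?_⟩
  · let Φ : ↥(Cfsg.GU n F (p ^ (f / 2))) →*
        ↥(Cfsg.inndiagPSL n F ⊓ Subgroup.centralizer {φ * itAut n F}) :=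
      ((pgl n F).comp (Subgroup.subtype _)).codRestrict _ (fun g => by
        refine ⟨?_, (comm_graphField_iff hn hσ hφ _).mpr ⟨g, 1, (hGU g).mp g.2, ?_⟩⟩
        · show pgl n F _ ∈ Cfsg.inndiagPSL n F
          rw [← pgl_range]; exact ⟨_, rfl⟩
        · rw [show scalarGL (Fin n) (1 : Fˣ) = 1 from map_one _, mul_one]; rfl)
    have hsurj : Function.Surjective Φ := by
      rintro ⟨β, hβ, hc⟩
      rw [SetLike.mem_coe, ← pgl_range] at hβ
      obtain ⟨g, rfl⟩ := hβ
      obtain ⟨g₀, d, hg₀, rfl⟩ := (comm_graphField_iff hn hσ hφ g).mp hc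
      refine ⟨⟨g₀, (hGU g₀).mpr hg₀⟩, Subtype.ext ?_⟩
      show pgl n F g₀ = pgl n F (g₀ * scalarGL _ d)
      rw [map_mul, pgl_scalar, mul_one]
    have hker : Φ.ker = (Cfsg.Geo.scalars (Fin n) F).subgroupOf (Cfsg.GU n F (p ^ (f / 2))) := by
      ext g
      rw [MonoidHom.mem_ker, Subgroup.mem_subgroupOf]
      constructor
      · intro h
        obtain ⟨c, hc⟩ := (pgl_eq_one_iff (by omega)).mp (congrArg Subtype.val h)
        exact ⟨c, hc.symm⟩
      · rintro ⟨c, hc⟩
        apply Subtype.ext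
        show pgl n F (g : GL (Fin n) F) = 1
        rw [← hc]
        exact pgl_scalar c
    exact ⟨((QuotientGroup.quotientMulEquivOfEq hker.symm).trans
      (QuotientGroup.quotientKerEquivOfSurjective Φ hsurj)).symm⟩
  · rw [index_detClass (by omega) _ (normU σ 2).ker]
    · congr 1
      rw [Subgroup.index_ker, ← hσ]
      have e : (normU σ (orderOf σ)).range = (twistU σ).ker := by
        apply le_antisymm
        · rintro _ ⟨d, rfl⟩
          exact (mem_ker_twistU σ _).mpr (normU_fixed σ d)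
        · intro c hc
          exact exists_norm_eq σ c ((mem_ker_twistU σ c).mp hc)
      rw [e, card_ker_twist, hfix, hσ]
    · intro g hg
      obtain ⟨g₀, d, hg₀, rfl⟩ := (comm_graphField_iff hn hσ hφ g).mp hg
      rw [map_mul, Matrix.GeneralLinearGroup.det_scalar, Fintype.card_fin]
      refine Subgroup.mul_mem_sup ?_ ⟨d, rfl⟩
      show normU σ 2 (Matrix.GeneralLinearGroup.det g₀) = 1
      apply Units.ext
      rw [normU_two, Units.val_one, Matrix.GeneralLinearGroup.val_det_apply]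
      have := congrArg Matrix.det hg₀
      rw [Matrix.det_mul, Matrix.det_transpose, Matrix.det_one] at this
      rw [show σ (g₀ : Matrix (Fin n) (Fin n) F).det = ((g₀ : Matrix (Fin n) (Fin n) F).map σ).det from
        RingHom.map_det (σ : F →+* F) _]
      exact this
    · intro c hc
      refine ⟨diagGL (by omega) c, (comm_graphField_iff hn hσ hφ _).mpr
        ⟨diagGL (by omega : 2 ≤ n) c, 1, ?_, ?_⟩, diagGL_det _ c⟩
      · have hc' : (c : F) * σ (c : F) = 1 := by
          rw [← normU_two]; exact congrArg Units.val (MonoidHom.mem_ker.mp hc)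
        show (Matrix.diagonal _) * ((Matrix.diagonal _).map σ)ᵀ = 1
        rw [Matrix.diagonal_map (map_zero σ), Matrix.diagonal_transpose, Matrix.diagonal_mul_diagonal,
          Matrix.diagonal_eq_one]
        funext a
        by_cases ha : a = ⟨0, by omega⟩
        · subst ha; simp [hc']
        · simp [Function.update_of_ne ha]
      · rw [show scalarGL (Fin n) (1 : Fˣ) = 1 from map_one _, mul_one]

/-- Modulo `Inndiag`, every automorphism centralises a standard graph-field automorphism. -/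
theorem aut_decomp_comm (hn : 3 ≤ n) {σ : F ≃+* F}
    {φ : MulAut (Matrix.ProjectiveSpecialLinearGroup (Fin n) F)} (hφ : IsSemi 1 σ φ)
    (α : MulAut (Matrix.ProjectiveSpecialLinearGroup (Fin n) F)) :
    ∃ h ∈ Cfsg.inndiagPSL n F, ∃ c, Commute c (φ * itAut n F) ∧ α = h * c := by
  obtain ⟨g, τ, β, hβ, hα⟩ := exists_semi (by omega) α
  obtain ⟨ψ, hψ⟩ := exists_induced (S := Matrix.SpecialLinearGroup (Fin n) F) rho_injective
    (normalises_psl 1 τ)
  have hc := Induced.comp (normalises_psl 1 τ) (isSemi_pgl g) hψ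
  rw [map_one, mul_one, one_mul] at hc
  have hβ' : β = pgl n F g * ψ := Induced.ext (normalises_psl g τ) hβ hc
  have h1 := Induced.comp (normalises_psl 1 σ) hψ hφ
  have h2 := Induced.comp (normalises_psl 1 τ) hφ hψ
  rw [map_one, mul_one] at h1 h2
  rw [ringAut_comm τ σ] at h1
  have hcomm : Commute ψ φ := Induced.ext (normalises_psl _ _) h1 h2
  have hψι : Commute ψ (itAut n F) := (itAut_comm_std hψ).symm
  have hmem : pgl n F g ∈ Cfsg.inndiagPSL n F := by rw [← pgl_range]; exact ⟨g, rfl⟩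
  rcases hα with rfl | ⟨-, rfl⟩
  · exact ⟨_, hmem, ψ, hcomm.mul_right hψι, hβ'⟩
  · refine ⟨_, hmem, ψ * itAut n F, (hcomm.mul_right hψι).mul_left ?_, by rw [hβ', mul_assoc]⟩
    exact (itAut_comm_std hφ).mul_right (Commute.refl _)

theorem graphField_class (hn : 3 ≤ n) {p f : ℕ} (hp : p.Prime) (hF : Fintype.card F = p ^ f)
    (hf : 1 ≤ f) (x : MulAut (Matrix.ProjectiveSpecialLinearGroup (Fin n) F))
    (hx : Cfsg.IsGraphFieldAutClassPSL x) (hx2 : orderOf x = 2) :
    Even f ∧ (∀ y : MulAut (Matrix.ProjectiveSpecialLinearGroup (Fin n) F),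
        Cfsg.IsGraphFieldAutClassPSL y → orderOf y = 2 → Cfsg.IsConjUnder (Cfsg.inndiagPSL n F) x y) ∧
      Nonempty (↥(Cfsg.inndiagPSL n F ⊓ Subgroup.centralizer {x}) ≃* Cfsg.PGU n F (p ^ (f / 2))) ∧
      Cfsg.splitClassCount (Cfsg.inndiagPSL n F) (Cfsg.Inn (Matrix.ProjectiveSpecialLinearGroup (Fin n) F)) x =
        Nat.gcd n (p ^ (f / 2) - 1) := by
  have hnorm : ∀ α : MulAut (Matrix.ProjectiveSpecialLinearGroup (Fin n) F),
      ∀ d ∈ Cfsg.inndiagPSL n F, α * d * α⁻¹ ∈ Cfsg.inndiagPSL n F := fun α d hd =>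
    conj_inndiag (by omega) α hd
  obtain ⟨-, α, φ, γ, σ, hσ, hφ, hγ, hα⟩ := hx
  rw [(isInverseTranspose_iff γ).mp hγ] at hα
  have hφ' := (isStdField_iff σ φ).mp hφ
  obtain ⟨-, hσ2⟩ := graphField_order hn hσ hφ' Nat.prime_two
    (by rw [← hα, orderOf_conj', hx2])
  obtain ⟨h1, ⟨e2⟩, h3⟩ := graphField_centralizer hn hp hF hf hσ2 hφ'
  refine ⟨h1, ?_, ?_, ?_⟩
  · intro y hy hy2
    obtain ⟨-, α', φ₂, γ₂, σ₂, hσ', hφ₂, hγ₂, hα'⟩ := hy
    rw [(isInverseTranspose_iff γ₂).mp hγ₂] at hα'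
    have hφ₂' := (isStdField_iff σ₂ φ₂).mp hφ₂
    obtain ⟨-, hσ₂⟩ := graphField_order hn hσ' hφ₂' Nat.prime_two (by rw [← hα', orderOf_conj', hy2])
    have hσeq : σ₂ = σ := RingEquiv.ext fun a => by
      rw [involution_eq_pow hσ₂ hp hF hf, involution_eq_pow hσ2 hp hF hf]
    subst hσeq
    have hφeq : φ₂ = φ := Induced.ext (normalises_psl _ _) hφ₂' hφ'
    subst hφeq
    rw [isConjUnder_conj_iff hnorm α]
    obtain ⟨h, hh, c, hc, hαc⟩ := aut_decomp_comm hn hφ' (α * α'⁻¹)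
    refine ⟨h, hh, ?_⟩
    rw [hα]
    have hy' : y = α'⁻¹ * (φ₂ * itAut n F) * α' := by rw [← hα']; group
    calc α * y * α⁻¹ = (α * α'⁻¹) * (φ₂ * itAut n F) * (α * α'⁻¹)⁻¹ := by rw [hy']; group
      _ = h * (c * (φ₂ * itAut n F) * c⁻¹) * h⁻¹ := by rw [hαc]; group
      _ = h * (φ₂ * itAut n F) * h⁻¹ := by rw [hc.eq, mul_inv_cancel_right]
  · obtain ⟨e⟩ := centralizer_conj_equiv (Cfsg.inndiagPSL n F) hnorm α x
    exact ⟨e.trans ((MulEquiv.subgroupCongr (by rw [hα])).trans e2)⟩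
  · rw [← splitClassCount_conj (X := MulAut (Matrix.ProjectiveSpecialLinearGroup (Fin n) F)) _ _
      hnorm (fun α d hd => inn_conj α d hd) α x, hα]
    exact h3

end Cfsg.Agent.AutPSL
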